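import Mathlib
import Cfsg.Agent.Helper1.PGroup

/-!
# A criterion for the simplicity of a derived subgroup of index two

`G` finite, every non-trivial normal subgroup of `G` has index a power of `2`, the derived subgroup
`D` has index `2` and its order is not a square: then `D` is simple.
-/

set_option autoImplicit false
set_option linter.all false

namespace Cfsg.Agent.Helper17.Tits

open Subgroup

variable {G : Type*} [Group G]

/-- a finite `2`-group whose abelianisation is generated by one element is commutative. -/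
theorem commutator_eq_bot_of_cyclic_mod {Q : Type*} [Group Q] [Finite Q] (hQ : IsPGroup 2 Q)
    (x : Q) (hx : zpowers x ⊔ commutator Q = ⊤) : commutator Q = ⊥ := by
  haveI : Fact (Nat.Prime 2) := ⟨Nat.prime_two⟩
  have h1 : commutator Q ≤ frattini Q := Cfsg.Agent.Helper1.IsPGroup.commutator_le_frattini hQ
  have h2 : zpowers x ⊔ frattini Q = ⊤ := by
    rw [eq_top_iff, ← hx]
    exact sup_le_sup_left h1 _
  have h3 : zpowers x = ⊤ := frattini_nongenerating h2
  rw [commutator_eq_bot_iff_center_eq_top, eq_top_iff]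
  intro y _
  rw [Subgroup.mem_center_iff]
  intro z
  have hy : y ∈ zpowers x := by rw [h3]; trivial
  have hz : z ∈ zpowers x := by rw [h3]; trivial
  obtain ⟨a, rfl⟩ := hy
  obtain ⟨b, rfl⟩ := hz
  exact (Commute.zpow_zpow_self x b a).eq

variable [Finite G]

/-- every non-trivial normal subgroup contains the derived subgroup. -/
theorem commutator_le_of_normal
    (hT : ∀ K : Subgroup G, K.Normal → K ≠ ⊥ → ∃ k, K.index = 2 ^ k)
    (hidx : (commutator G).index = 2) (K : Subgroup G) [hK : K.Normal] (hne : K ≠ ⊥) :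
    commutator G ≤ K := by
  obtain ⟨k, hk⟩ := hT K hK hne
  have hQ : IsPGroup 2 (G ⧸ K) := by
    apply IsPGroup.of_card (n := k)
    rw [← hk]
    exact (Subgroup.index_eq_card K).symm
  obtain ⟨g0, hg0⟩ : ∃ g0 : G, g0 ∉ commutator G := by
    by_contra h
    push Not at h
    have : commutator G = ⊤ := eq_top_iff.2 (fun g _ => h g)
    rw [this, Subgroup.index_top] at hidx
    omega
  have hmap : (commutator G).map (QuotientGroup.mk' K) = commutator (G ⧸ K) := by
    rw [commutator_def, commutator_def, Subgroup.map_commutator,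
      Subgroup.map_top_of_surjective _ (QuotientGroup.mk'_surjective K)]
  have hx : zpowers (QuotientGroup.mk' K g0) ⊔ commutator (G ⧸ K) = ⊤ := by
    rw [eq_top_iff]
    intro q _
    obtain ⟨g, rfl⟩ := QuotientGroup.mk'_surjective K q
    by_cases hg : g ∈ commutator G
    · apply Subgroup.mem_sup_right
      rw [← hmap]
      exact Subgroup.mem_map_of_mem _ hg
    · have h1 : g * g0⁻¹ ∈ commutator G := by
        rw [Subgroup.mul_mem_iff_of_index_two hidx]
        constructor
        · intro h; exact absurd h hg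
        · intro h; exact absurd ((commutator G).inv_mem_iff.1 h) hg0
      have e : QuotientGroup.mk' K g = QuotientGroup.mk' K g0 * QuotientGroup.mk' K (g0⁻¹ * g) := by
        rw [← map_mul]; congr 1; group
      have h2 : g0⁻¹ * g ∈ commutator G := by
        have : g0⁻¹ * g = g0⁻¹ * (g * g0⁻¹) * g0⁻¹⁻¹ := by group
        rw [this]
        exact (inferInstance : (commutator G).Normal).conj_mem _ h1 _
      rw [e]
      apply Subgroup.mul_mem
      · exact Subgroup.mem_sup_left (Subgroup.mem_zpowers _)
      · apply Subgroup.mem_sup_right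
        rw [← hmap]
        exact Subgroup.mem_map_of_mem _ h2
  have hbot := commutator_eq_bot_of_cyclic_mod hQ _ hx
  rw [← hmap, Subgroup.map_eq_bot_iff, QuotientGroup.ker_mk'] at hbot
  exact hbot


/-- a subgroup of a normal subgroup `D` of index two, normal in `D` and stable under conjugation
with an element outside `D`, is normal in the whole group. -/
theorem normal_map_of_stable (D : Subgroup G) [hD : D.Normal] (hidx : D.index = 2) {g0 : G}
    (hg0 : g0 ∉ D) (L : Subgroup ↥D) [hL : L.Normal]
    (hst : ∀ x ∈ L, MulAut.conjNormal g0 x ∈ L) : (L.map D.subtype).Normal := by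
  constructor
  rintro y ⟨x, hx, rfl⟩ g
  by_cases hg : g ∈ D
  · refine ⟨(⟨g, hg⟩ : ↥D) * x * (⟨g, hg⟩ : ↥D)⁻¹, hL.conj_mem x hx _, ?_⟩
    simp
  · have h1 : g * g0⁻¹ ∈ D := by
      rw [Subgroup.mul_mem_iff_of_index_two hidx]
      constructor
      · intro h; exact absurd h hg
      · intro h; exact absurd (D.inv_mem_iff.1 h) hg0
    refine ⟨(⟨g * g0⁻¹, h1⟩ : ↥D) * MulAut.conjNormal g0 x * (⟨g * g0⁻¹, h1⟩ : ↥D)⁻¹,
      hL.conj_mem _ (hst x hx) _, ?_⟩
    simp only [Subgroup.subtype_apply, Subgroup.coe_mul, Subgroup.coe_inv,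
      MulAut.conjNormal_apply]
    group

/-- the criterion. -/
theorem isSimpleGroup_commutator
    (hT : ∀ K : Subgroup G, K.Normal → K ≠ ⊥ → ∃ k, K.index = 2 ^ k)
    (hidx : (commutator G).index = 2) (hsq : ¬ IsSquare (Nat.card (commutator G))) :
    IsSimpleGroup ↥(commutator G) := by
  have hnt : Nontrivial ↥(commutator G) := by
    rw [← not_subsingleton_iff_nontrivial]
    intro h
    apply hsq
    rw [Nat.card_eq_one_iff_unique.2 ⟨h, ⟨1⟩⟩]
    exact ⟨1, rfl⟩
  obtain ⟨g0, hg0⟩ : ∃ g0 : G, g0 ∉ commutator G := by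
    by_contra h
    push Not at h
    have : commutator G = ⊤ := eq_top_iff.2 (fun g _ => h g)
    rw [this, Subgroup.index_top] at hidx
    omega
  have hsq0 : g0 * g0 ∈ commutator G := by
    rw [Subgroup.mul_mem_iff_of_index_two hidx]
  refine ⟨fun A hA => ?_⟩
  by_contra hcon
  push Not at hcon
  obtain ⟨hAbot, hAtop⟩ := hcon
  set φ : MulAut ↥(commutator G) := MulAut.conjNormal g0 with hφ
  set B : Subgroup ↥(commutator G) := A.map φ.toMonoidHom with hB
  have hBn : B.Normal := hA.map _ φ.surjective
  -- `φ` maps `B` into `A`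
  have hφB : ∀ x ∈ B, φ x ∈ A := by
    rintro x ⟨a, ha, rfl⟩
    have e : φ (φ.toMonoidHom a) =
        (⟨g0 * g0, hsq0⟩ : ↥(commutator G)) * a * (⟨g0 * g0, hsq0⟩ : ↥(commutator G))⁻¹ := by
      apply Subtype.ext
      simp only [hφ, MulEquiv.coe_toMonoidHom, MulAut.conjNormal_apply, Subgroup.coe_mul,
        Subgroup.coe_inv]
      group
    rw [e]
    exact hA.conj_mem a ha _
  have hφA : ∀ x ∈ A, φ x ∈ B := fun x hx => ⟨x, hx, rfl⟩
  have hinf : ((A ⊓ B).map (commutator G).subtype).Normal := by
    haveI : (A ⊓ B).Normal := inferInstance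
    apply normal_map_of_stable (commutator G) hidx hg0
    intro x hx
    exact ⟨hφB x hx.2, hφA x hx.1⟩
  have hsup : ((A ⊔ B).map (commutator G).subtype).Normal := by
    haveI : (A ⊔ B).Normal := inferInstance
    apply normal_map_of_stable (commutator G) hidx hg0
    intro x hx
    have h1 : (A ⊔ B).map φ.toMonoidHom ≤ A ⊔ B := by
      rw [Subgroup.map_sup, sup_comm]
      apply sup_le_sup
      · rintro y ⟨b, hb, rfl⟩
        exact hφB b hb
      · exact le_refl _
    exact h1 ⟨x, hx, rfl⟩
  have hinj : Function.Injective (commutator G).subtype := Subgroup.subtype_injective _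
  by_cases hI : A ⊓ B = ⊥
  · -- then `A ⊔ B = ⊤` and the order is a square
    have hne : (A ⊔ B).map (commutator G).subtype ≠ ⊥ := by
      intro h
      rw [Subgroup.map_eq_bot_iff_of_injective _ hinj] at h
      exact hAbot (le_bot_iff.1 (h ▸ le_sup_left))
    have h1 := commutator_le_of_normal hT hidx _ hne
    have htop : A ⊔ B = ⊤ := by
      rw [eq_top_iff]
      intro x _
      obtain ⟨y, hy, e⟩ := h1 x.2
      have : y = x := hinj e
      rwa [this] at hy
    have hcomp : IsComplement' A B := by
      apply Subgroup.isComplement'_of_disjoint_and_mul_eq_univ (disjoint_iff.2 hI)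
      rw [← Subgroup.normal_mul, htop]
      rfl
    have hc := hcomp.card_mul_card
    have hAB : Nat.card B = Nat.card A :=
      Nat.card_congr (A.equivMapOfInjective φ.toMonoidHom φ.injective).symm.toEquiv
    apply hsq
    rw [← hc, hAB]
    exact ⟨Nat.card A, rfl⟩
  · have hne : (A ⊓ B).map (commutator G).subtype ≠ ⊥ := by
      intro h
      rw [Subgroup.map_eq_bot_iff_of_injective _ hinj] at h
      exact hI h
    have h1 := commutator_le_of_normal hT hidx _ hne
    apply hAtop
    rw [eq_top_iff]
    intro x _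
    obtain ⟨y, hy, e⟩ := h1 x.2
    have : y = x := hinj e
    rw [this] at hy
    exact hy.1

end Cfsg.Agent.Helper17.Tits
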