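import Mathlib
import Cfsg.Agent.Helper11.TwF4Simple
import Cfsg.Agent.Helper11.TwF4Ord

/-!
# Normal subgroups of `²F₄(2)`

From the `(B, N)`-pair of `²F₄(q)` (helper11) at `q = 2`: a non-trivial normal subgroup `K`
satisfies `K B = G`, and `B` has order `2 ^ 12`; hence the index of `K` is a power of `2`.
-/

set_option autoImplicit false
set_option linter.all false

namespace Cfsg.Agent.Helper17.Tits

open Cfsg.Lie Cfsg.Agent.Helper6 Cfsg.Agent.Helper11.FixBN Cfsg.Agent.Helper11.TwF4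
open Cfsg.Agent.Helper2.BN

/-- Tits' lemma: a normal subgroup of a group with an irreducible `(B, N)`-pair lies in the core of
`B` or is a supplement of `B`. -/
theorem le_core_or_sup_eq_top {G : Type*} [Group G] (P : Cfsg.BNPair G) (hirr : P.Irreducible)
    (K : Subgroup G) [hK : K.Normal] : K ≤ P.B.normalCore ∨ K ⊔ P.B = ⊤ := by
  have hM : K ⊔ P.B = P.parabolic (P.S ∩ ((K ⊔ P.B : Subgroup G) : Set G)) :=
    eq_parabolic_of_le (K ⊔ P.B) le_sup_right
  by_cases hX : (P.S ∩ ((K ⊔ P.B : Subgroup G) : Set G)).Nonempty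
  · by_cases hX' : (P.S \ (P.S ∩ ((K ⊔ P.B : Subgroup G) : Set G))).Nonempty
    · exfalso
      obtain ⟨s, hs, s', hs', h⟩ := hirr _ Set.inter_subset_left hX hX'
      exact h (comm_of_normal K hs.1 hs.2 hs'.1 (fun h => hs'.2 ⟨hs'.1, h⟩))
    · right
      have hXS : P.S ∩ ((K ⊔ P.B : Subgroup G) : Set G) = P.S := by
        apply Set.Subset.antisymm Set.inter_subset_left
        exact Set.sdiff_eq_empty.mp (Set.not_nonempty_iff_eq_empty.mp hX')
      rw [hM, hXS, parabolic_S_eq_top]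
  · left
    have hXe := Set.not_nonempty_iff_eq_empty.mp hX
    have hMB : K ⊔ P.B = P.B := by
      rw [hM, hXe]; unfold Cfsg.BNPair.parabolic; rw [Subgroup.closure_empty, sup_bot_eq]
    have hKB : K ≤ P.B := hMB ▸ le_sup_left
    exact Subgroup.normal_le_normalCore.mpr hKB

theorem card_zmod2 : Fintype.card (ZMod 2) = 2 ^ (2 * 0 + 1) := by
  rw [ZMod.card]
  norm_num

theorem card_GT' : Nat.card ↥(twistedF4 (ZMod 2) 1) = 35942400 := by
  have h := card_main (K := ZMod 2) (m := 0) card_zmod2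
  have e : twistedF4 (ZMod 2) (2 ^ 0) = twistedF4 (ZMod 2) 1 := rfl
  rw [e] at h
  rw [h]
  norm_num

/-- the index of a non-trivial normal subgroup of `²F₄(2)` is a power of `2`. -/
theorem normal_index_pow_two (K : Subgroup ↥(twistedF4 (ZMod 2) 1)) (hK : K.Normal) (hne : K ≠ ⊥) :
    ∃ k, K.index = 2 ^ k := by
  have hc := charP_two (K := ZMod 2) (m := 0) card_zmod2
  obtain ⟨X⟩ := exists_sig (K := ZMod 2) 0
  have hθ : (2 : ℕ) ^ 0 ≠ 0 := theta_ne 0
  have hfrob := frob_card (K := ZMod 2) (m := 0) card_zmod2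
  have hadd := add_pow_card (K := ZMod 2) (m := 0) card_zmod2
  have hsurj := pow_surj (K := ZMod 2) (m := 0) card_zmod2
  set P := bnPair' (twF4 hθ X hfrob hadd) with hP
  have hirr : P.Irreducible := irreducible_F4 hθ X hfrob hadd
  have hcore : P.B.normalCore = ⊥ := core_F4 hθ
  have hBcard : Nat.card ↥P.B = 2 ^ 12 := by
    have h1 : Nat.card ↥P.B =
        Nat.card ↥(chevF4.borelSubgroup (ZMod 2) ⊓ twistedF4 (ZMod 2) (2 ^ 0)) := by
      change Nat.card ↥((chevF4.borelSubgroup (ZMod 2) ⊓ twistedF4 (ZMod 2) (2 ^ 0)).subgroupOf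
        (twistedF4 (ZMod 2) (2 ^ 0))) = _
      exact Nat.card_congr (Subgroup.subgroupOfEquivOfLe inf_le_right).toEquiv
    have h2 := card_B1 (twF4 hθ X hfrob hadd)
    have hU := card_U_inf hθ X hfrob hadd
    have hH := card_H1 hθ X hfrob hadd hsurj
    rw [h1]
    change Nat.card ↥(chevF4.borelSubgroup (ZMod 2) ⊓ twistedF4 (ZMod 2) (2 ^ 0)) =
      Nat.card ↥(chevF4.posUnipotent (ZMod 2) ⊓ twistedF4 (ZMod 2) (2 ^ 0)) *
        Nat.card ↥(chevF4.diagonalSubgroup (ZMod 2) ⊓ twistedF4 (ZMod 2) (2 ^ 0)) at h2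
    rw [h2, hU, hH, ZMod.card]
    norm_num
  have hK' : K.Normal := hK
  rcases le_core_or_sup_eq_top P hirr K with h | h
  · exfalso
    rw [hcore] at h
    exact hne (le_bot_iff.1 h)
  · have h1 : K.relIndex (K ⊔ P.B) = K.relIndex P.B := Subgroup.relIndex_sup_left P.B K
    rw [h, Subgroup.relIndex_top_right] at h1
    have h2 : K.index ∣ 2 ^ 12 := by
      rw [h1, ← hBcard]
      exact Subgroup.relIndex_dvd_card K P.B
    obtain ⟨k, _, hk⟩ := (Nat.dvd_prime_pow Nat.prime_two).1 h2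
    exact ⟨k, hk⟩

end Cfsg.Agent.Helper17.Tits
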