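import Mathlib
import Cfsg.Prelude.Def_ChevF4
import Cfsg.Prelude.Def_ChevWords

/-!
# Vectors over `ZMod 2` on the index set of type `F₄` as bit masks

`vecOf n` is the vector whose coordinates are the bits of `n`; a matrix which differs from the
identity in few entries acts on bit masks by `applyX` (a list of pairs `(j, m)`: if bit `j` is set,
add the mask `m`).  `mulVec_vecOf` is the bridge; its hypothesis on the entries of the matrix is
decidable.
-/

set_option autoImplicit false
set_option linter.all false

namespace Cfsg.Agent.Helper17.Tits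

open Cfsg.Lie Matrix

/-- the index set of the adjoint module of type `F₄`. -/
abbrev Idx : Type := chevF4.Idx

/-- position of a coordinate: `0 … 3` for the Cartan part, `4 + s` for the root vector `e_s`. -/
def code : Idx → ℕ
  | .inl i => i.val
  | .inr s => 4 + s.val

/-- the coordinate at a position. -/
def dec (k : ℕ) : Idx :=
  if h : k < 4 then .inl ⟨k, h⟩
  else if h2 : k - 4 < 48 then .inr ⟨k - 4, h2⟩ else .inl ⟨0, by decide⟩

theorem code_lt (j : Idx) : code j < 52 := by
  rcases j with i | s
  · have : i.val < 4 := i.isLt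
    show i.val < 52
    omega
  · have : s.val < 48 := s.isLt
    show 4 + s.val < 52
    omega

theorem dec_code (j : Idx) : dec (code j) = j := by
  rcases j with i | s
  · have hi : i.val < 4 := i.isLt
    show dec i.val = _
    unfold dec
    rw [dif_pos hi]
  · have hs : s.val < 48 := s.isLt
    show dec (4 + s.val) = _
    unfold dec
    have h1 : ¬ (4 + s.val < 4) := by omega
    have h2 : 4 + s.val - 4 < 48 := by omega
    rw [dif_neg h1, dif_pos h2]
    congr 1
    apply Fin.ext
    show 4 + s.val - 4 = s.val
    omega

theorem code_dec {k : ℕ} (hk : k < 52) : code (dec k) = k := by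
  unfold dec
  by_cases h : k < 4
  · rw [dif_pos h]; rfl
  · have h2 : k - 4 < 48 := by omega
    rw [dif_neg h, dif_pos h2]
    show 4 + (k - 4) = k
    omega

theorem code_injective : Function.Injective code := by
  intro a b h
  rw [← dec_code a, ← dec_code b, h]

/-- `0` or `1` in `ZMod 2`. -/
def bz (b : Bool) : ZMod 2 := cond b 1 0

@[simp] theorem bz_true : bz true = 1 := rfl
@[simp] theorem bz_false : bz false = 0 := rfl

theorem bz_xor (a b : Bool) : bz (xor a b) = bz a + bz b := by
  cases a <;> cases b <;> decide

theorem bz_and (a b : Bool) : bz (a && b) = bz a * bz b := by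
  cases a <;> cases b <;> decide

theorem bz_injective : Function.Injective bz := by
  intro a b h
  cases a <;> cases b <;> first | rfl | (exfalso; revert h; decide)

/-- the vector with the bits of `n` as coordinates. -/
def vecOf (n : ℕ) : Idx → ZMod 2 := fun i => bz (n.testBit (code i))

/-- add the mask `p.2` for every pair `p` with bit `p.1` of `n` set. -/
def applyX (ps : List (ℕ × ℕ)) (n : ℕ) : ℕ :=
  ps.foldl (fun acc p => cond (n.testBit p.1) (acc ^^^ p.2) acc) n

/-- the bit `k` of the correction. -/
def corr (ps : List (ℕ × ℕ)) (n k : ℕ) : ZMod 2 :=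
  (ps.map fun p => bz (n.testBit p.1) * bz (p.2.testBit k)).sum

theorem foldl_testBit (ps : List (ℕ × ℕ)) (n k : ℕ) : ∀ acc : ℕ,
    bz ((ps.foldl (fun acc p => cond (n.testBit p.1) (acc ^^^ p.2) acc) acc).testBit k) =
      bz (acc.testBit k) + corr ps n k := by
  induction ps with
  | nil => intro acc; simp [corr]
  | cons p ps ih =>
    intro acc
    rw [List.foldl_cons, ih]
    have h1 : bz ((cond (n.testBit p.1) (acc ^^^ p.2) acc).testBit k) =
        bz (acc.testBit k) + bz (n.testBit p.1) * bz (p.2.testBit k) := by
      cases h : n.testBit p.1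
      · simp
      · simp [Nat.testBit_xor, bz_xor]
    rw [h1]
    simp only [corr, List.map_cons, List.sum_cons]
    ring

theorem vecOf_applyX (ps : List (ℕ × ℕ)) (n : ℕ) (i : Idx) :
    vecOf (applyX ps n) i = vecOf n i + corr ps n (code i) := by
  unfold vecOf applyX
  exact foldl_testBit ps n (code i) n

/-- the entry `(i, j)` of the matrix described by `ps`. -/
def entry (ps : List (ℕ × ℕ)) (i j : Idx) : ZMod 2 :=
  (if i = j then 1 else 0) +
    (ps.map fun p => if p.1 = code j then bz (p.2.testBit (code i)) else 0).sum

theorem sum_code_eq (k : ℕ) (hk : k < 52) (f : ℕ → ZMod 2) (c : ZMod 2) :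
    ∑ j : Idx, (if k = code j then c else 0) * f (code j) = c * f k := by
  rw [Finset.sum_eq_single (dec k)]
  · rw [code_dec hk, if_pos rfl]
  · intro b _ hb
    have : k ≠ code b := by
      intro h
      apply hb
      rw [h, dec_code]
    rw [if_neg this, zero_mul]
  · intro h
    exact absurd (Finset.mem_univ _) h

theorem sum_entry (ps : List (ℕ × ℕ)) (hps : ∀ p ∈ ps, p.1 < 52) (n : ℕ) (i : Idx) :
    ∑ j : Idx, entry ps i j * vecOf n j = vecOf n i + corr ps n (code i) := by
  induction ps with
  | nil =>
    simp only [entry, List.map_nil, List.sum_nil, add_zero, corr]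
    rw [Finset.sum_eq_single i]
    · simp
    · intro b _ hb
      rw [if_neg (Ne.symm hb), zero_mul]
    · intro h
      exact absurd (Finset.mem_univ _) h
  | cons p ps ih =>
    have hp : p.1 < 52 := hps p (List.mem_cons_self)
    have hps' : ∀ q ∈ ps, q.1 < 52 := fun q hq => hps q (List.mem_cons_of_mem _ hq)
    have e : ∀ j : Idx, entry (p :: ps) i j * vecOf n j =
        entry ps i j * vecOf n j +
          (if p.1 = code j then bz (p.2.testBit (code i)) else 0) * bz (n.testBit (code j)) := by
      intro j
      simp only [entry, List.map_cons, List.sum_cons, vecOf]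
      ring
    rw [Finset.sum_congr rfl (fun j _ => e j), Finset.sum_add_distrib, ih hps',
      sum_code_eq p.1 hp (fun k => bz (n.testBit k))]
    simp only [corr, List.map_cons, List.sum_cons]
    ring

/-- the bridge: a matrix with the entries described by `ps` acts on bit masks by `applyX ps`. -/
theorem mulVec_vecOf (A : Matrix Idx Idx (ZMod 2)) (ps : List (ℕ × ℕ))
    (hps : ∀ p ∈ ps, p.1 < 52) (hA : ∀ i j, A i j = entry ps i j) (n : ℕ) :
    A *ᵥ vecOf n = vecOf (applyX ps n) := by
  funext i
  rw [vecOf_applyX, ← sum_entry ps hps n i]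
  show ∑ j : Idx, A i j * vecOf n j = _
  exact Finset.sum_congr rfl (fun j _ => by rw [hA i j])

/-- the basis vectors. -/
theorem vecOf_two_pow (j : Idx) : vecOf (2 ^ code j) = Pi.single j 1 := by
  funext i
  unfold vecOf
  rw [Nat.testBit_two_pow]
  by_cases h : i = j
  · subst h
    simp
  · have : code j ≠ code i := fun e => h (code_injective e.symm)
    rw [Pi.single_eq_of_ne h]
    simp [this]

/-- a vector is determined by its mask. -/
theorem vecOf_injOn {a b : ℕ} (ha : a < 2 ^ 52) (hb : b < 2 ^ 52) (h : vecOf a = vecOf b) :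
    a = b := by
  apply Nat.eq_of_testBit_eq
  intro k
  by_cases hk : k < 52
  · have := congrFun h (dec k)
    unfold vecOf at this
    rw [code_dec hk] at this
    exact bz_injective this
  · have hk' : 52 ≤ k := by omega
    have h1 : a < 2 ^ k := lt_of_lt_of_le ha (Nat.pow_le_pow_right (by norm_num) hk')
    have h2 : b < 2 ^ k := lt_of_lt_of_le hb (Nat.pow_le_pow_right (by norm_num) hk')
    rw [Nat.testBit_lt_two_pow h1, Nat.testBit_lt_two_pow h2]

/-- two matrices which agree on the basis vectors are equal. -/
theorem matrix_ext_of_mulVec {A B : Matrix Idx Idx (ZMod 2)}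
    (h : ∀ j : Idx, A *ᵥ vecOf (2 ^ code j) = B *ᵥ vecOf (2 ^ code j)) : A = B := by
  ext i j
  have := congrFun (h j) i
  rw [vecOf_two_pow, Matrix.mulVec_single_one, Matrix.mulVec_single_one] at this
  exact this

end Cfsg.Agent.Helper17.Tits
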