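import Cfsg.Agent.Helper17.Tits.ColData

set_option autoImplicit false
set_option linter.all false
set_option maxRecDepth 1000000
set_option maxHeartbeats 0

namespace Cfsg.Agent.Helper17.Tits

open Cfsg.Agent.Helper19.TCS

theorem okC0 : okPts (0 * 2500) 2500 = true := by decide +kernel
theorem okC1 : okPts (1 * 2500) 2500 = true := by decide +kernel
theorem okC2 : okPts (2 * 2500) 2500 = true := by decide +kernel
theorem okC3 : okPts (3 * 2500) 2500 = true := by decide +kernel
theorem okC4 : okPts (4 * 2500) 2500 = true := by decide +kernel

end Cfsg.Agent.Helper17.Tits
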