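import Cfsg.Agent.Helper17.Tits.ColData

set_option autoImplicit false
set_option linter.all false
set_option maxRecDepth 1000000
set_option maxHeartbeats 0

namespace Cfsg.Agent.Helper17.Tits

open Cfsg.Agent.Helper19.TCS

theorem okC5 : okPts (5 * 2500) 2500 = true := by decide +kernel
theorem okC6 : okPts (6 * 2500) 2500 = true := by decide +kernel
theorem okC7 : okPts (7 * 2500) 2500 = true := by decide +kernel
theorem okC8 : okPts (8 * 2500) 2500 = true := by decide +kernel
theorem okC9 : okPts (9 * 2500) 2500 = true := by decide +kernel

end Cfsg.Agent.Helper17.Tits
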