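import Mathlib
import Cfsg.Agent.Helper17.Tits.ColChk0
import Cfsg.Agent.Helper17.Tits.ColChk1

set_option autoImplicit false
set_option linter.all false
set_option maxRecDepth 1000000
set_option maxHeartbeats 0

namespace Cfsg.Agent.Helper17.Tits

open Cfsg.Agent.Helper19.TCS

theorem okPts_succ (lo n : ℕ) : okPts lo (n + 1) =
    bIf (bIf (Nat.blt (Nat.add lo n) 24960) (okPt (Nat.add lo n)) true) (okPts lo n) false :=
  force_eq (Nat.add lo n) (fun i => bIf (bIf (Nat.blt i 24960) (okPt i) true) (okPts lo n) false)

theorem bIf_eq_true' {b c : Bool} : bIf b c false = true ↔ b = true ∧ c = true := by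
  cases b <;> cases c <;> simp [bIf]

theorem okPts_spec (lo : ℕ) : ∀ n, okPts lo n = true →
    ∀ i, lo ≤ i → i < lo + n → i < 24960 → okPt i = true := by
  intro n
  induction n with
  | zero => intro _ i h1 h2; omega
  | succ n ih =>
    intro h i h1 h2 hi
    rw [okPts_succ, bIf_eq_true'] at h
    obtain ⟨ha, hb⟩ := h
    by_cases hin : i = lo + n
    · subst hin
      have hlt : Nat.blt (Nat.add lo n) 24960 = true := by simpa using hi
      rw [hlt, bIf_true] at ha
      exact ha
    · exact ih hb i h1 (by omega) hi

theorem okC_all : ∀ p, p < 10 → okPts (p * 2500) 2500 = true := by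
  intro p hp
  interval_cases p
  · exact okC0
  · exact okC1
  · exact okC2
  · exact okC3
  · exact okC4
  · exact okC5
  · exact okC6
  · exact okC7
  · exact okC8
  · exact okC9

theorem okPt_all : ∀ i, i < 24960 → okPt i = true := by
  intro i hi
  have hp : i / 2500 < 10 := by omega
  have h1 : i / 2500 * 2500 ≤ i := Nat.div_mul_le_self i 2500
  have h2 : i < i / 2500 * 2500 + 2500 := by omega
  exact okPts_spec (i / 2500 * 2500) 2500 (okC_all (i / 2500) hp) i h1 h2 hi

end Cfsg.Agent.Helper17.Tits
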