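import Cfsg.Agent.Helper17.Tits.RootData
import Cfsg.Agent.Helper11.TwF4B

/-!
# The generators of `²F₄(2)` acting on bit masks

The twelve root elements `x_r(1)` act on the vectors `vecOf n` by `applyX (cols r)`; products of
root elements (`wprod`) act by `wapp`; two such products are equal as soon as they agree on the
52 basis masks (`wprod_eq`, decidable).  The four generators `gu, gU, gv, gV` generate `²F₄(2)`.
-/

set_option autoImplicit false
set_option linter.all false
set_option maxRecDepth 100000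

namespace Cfsg.Agent.Helper17.Tits

open Cfsg.Lie Cfsg.Agent.Helper6 Cfsg.Agent.Helper11.TwF4 Matrix

/-- comparison of one entry. -/
def entOK (r : ℕ) (i j : Idx) : Bool := decide (chevF4.x (ZMod 2) r 1 i j = entry (cols r) i j)

theorem cols_ok : ∀ r ∈ roots12, (∀ p ∈ cols r, p.1 < 52) ∧
    ∀ i j : Idx, entOK r i j = true := by decide +kernel

theorem x_mulVec {r : ℕ} (hr : r ∈ roots12) (n : ℕ) :
    chevF4.x (ZMod 2) r 1 *ᵥ vecOf n = vecOf (applyX (cols r) n) :=
  mulVec_vecOf _ _ (cols_ok r hr).1 (fun i j => of_decide_eq_true ((cols_ok r hr).2 i j)) n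

/-- a product of root elements `x_r(1)`. -/
def wprod (rs : List ℕ) : GL Idx (ZMod 2) := (rs.map fun r => xU hBF4 r (1 : ZMod 2)).prod

/-- its action on bit masks. -/
def wapp (rs : List ℕ) (n : ℕ) : ℕ := rs.foldr (fun r acc => applyX (cols r) acc) n

theorem wprod_nil : wprod [] = 1 := rfl

theorem wprod_cons (r : ℕ) (rs : List ℕ) : wprod (r :: rs) = xU hBF4 r 1 * wprod rs := by
  simp [wprod]

theorem wprod_append (a b : List ℕ) : wprod (a ++ b) = wprod a * wprod b := by
  simp [wprod]

theorem wprod_mulVec (rs : List ℕ) (hrs : ∀ r ∈ rs, r ∈ roots12) (n : ℕ) :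
    ((wprod rs : GL Idx (ZMod 2)) : Matrix Idx Idx (ZMod 2)) *ᵥ vecOf n = vecOf (wapp rs n) := by
  induction rs with
  | nil => simp [wprod, wapp]
  | cons r rs ih =>
    have hr : r ∈ roots12 := hrs r List.mem_cons_self
    have hrs' : ∀ s ∈ rs, s ∈ roots12 := fun s hs => hrs s (List.mem_cons_of_mem _ hs)
    rw [wprod_cons, Units.val_mul, ← Matrix.mulVec_mulVec, ih hrs', xU_val, x_mulVec hr]
    rfl

/-- equality of two products of root elements, by the images of the basis masks. -/
theorem wprod_eq (a b : List ℕ) (ha : ∀ r ∈ a, r ∈ roots12) (hb : ∀ r ∈ b, r ∈ roots12)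
    (h : ∀ k, k < 52 → wapp a (2 ^ k) = wapp b (2 ^ k)) : wprod a = wprod b := by
  apply Units.ext
  apply matrix_ext_of_mulVec
  intro j
  rw [wprod_mulVec a ha, wprod_mulVec b hb, h (code j) (code_lt j)]

/-- the four generators. -/
def gu : GL Idx (ZMod 2) := wprod [33, 24]
def gU : GL Idx (ZMod 2) := wprod [14, 23]
def gv : GL Idx (ZMod 2) := wprod [27, 25, 28]
def gV : GL Idx (ZMod 2) := wprod [20, 22, 19]

theorem pair_pos_one : pairGen 1 f4p1 f4p4 (1 : ZMod 2) = gu := by
  simp [pairGen, gu, wprod, f4p1, f4p4]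

theorem pair_neg_one : pairGen 1 f4m1 f4m4 (1 : ZMod 2) = gU := by
  simp [pairGen, gU, wprod, f4m1, f4m4]

theorem pair_zero (r rb : ℕ) : pairGen 1 r rb (0 : ZMod 2) = 1 := by
  simp [pairGen, xU_zero]

theorem b2_zero_zero (a b ab aab : ℕ) : b2Gen 1 a b ab aab (0 : ZMod 2) 0 = 1 := by
  simp [b2Gen, W4, xU_zero]

theorem b2_pos_10 : b2Gen 1 f4a f4b f4ab f4aab (1 : ZMod 2) 0 = gv := by
  simp [b2Gen, W4, gv, wprod, f4a, f4b, f4ab, f4aab, xU_zero, mul_assoc]

theorem b2_neg_10 : b2Gen 1 f4ma f4mb f4mab f4maab (1 : ZMod 2) 0 = gV := by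
  simp [b2Gen, W4, gV, wprod, f4ma, f4mb, f4mab, f4maab, xU_zero, mul_assoc]

theorem two_eq_zero' : (1 : ZMod 2) + 1 = 0 := by decide

theorem zmod2_cases (t : ZMod 2) : t = 0 ∨ t = 1 := by
  revert t; decide

theorem b2_pos_01 : b2Gen 1 f4a f4b f4ab f4aab (0 : ZMod 2) 1 = wprod [28, 30] := by
  simp [b2Gen, W4, wprod, f4a, f4b, f4ab, f4aab, xU_zero]

theorem b2_neg_01 : b2Gen 1 f4ma f4mb f4mab f4maab (0 : ZMod 2) 1 = wprod [19, 17] := by
  simp [b2Gen, W4, wprod, f4ma, f4mb, f4mab, f4maab, xU_zero]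

theorem b2_pos_11 : b2Gen 1 f4a f4b f4ab f4aab (1 : ZMod 2) 1 = wprod [27, 25, 30] := by
  simp [b2Gen, W4, wprod, f4a, f4b, f4ab, f4aab, xU_zero, two_eq_zero', mul_assoc]

theorem b2_neg_11 : b2Gen 1 f4ma f4mb f4mab f4maab (1 : ZMod 2) 1 = wprod [20, 22, 17] := by
  simp [b2Gen, W4, wprod, f4ma, f4mb, f4mab, f4maab, xU_zero, two_eq_zero', mul_assoc]

/-- `v(0,1) = v(1,0)²`. -/
theorem pos01_eq : wprod [28, 30] = gv * gv := by
  rw [gv, ← wprod_append]
  exact wprod_eq _ _ (by decide) (by decide) (by decide +kernel)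

theorem neg01_eq : wprod [19, 17] = gV * gV := by
  rw [gV, ← wprod_append]
  exact wprod_eq _ _ (by decide) (by decide) (by decide +kernel)

theorem pos11_eq : wprod [27, 25, 30] = gv * gv * gv := by
  rw [gv, ← wprod_append, ← wprod_append]
  exact wprod_eq _ _ (by decide) (by decide) (by decide +kernel)

theorem neg11_eq : wprod [20, 22, 17] = gV * gV * gV := by
  rw [gV, ← wprod_append, ← wprod_append]
  exact wprod_eq _ _ (by decide) (by decide) (by decide +kernel)

/-- the group `²F₄(2)`. -/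
abbrev GT : Subgroup (GL Idx (ZMod 2)) := twistedF4 (ZMod 2) 1

theorem gu_mem : gu ∈ GT := by rw [← pair_pos_one]; exact pairGen_pos_mem 1 1
theorem gU_mem : gU ∈ GT := by rw [← pair_neg_one]; exact pairGen_neg_mem 1 1
theorem gv_mem : gv ∈ GT := by rw [← b2_pos_10]; exact b2Gen_pos_mem 1 1 0
theorem gV_mem : gV ∈ GT := by rw [← b2_neg_10]; exact b2Gen_neg_mem 1 1 0

/-- `²F₄(2)` is generated by the four generators. -/
theorem GT_eq_closure : GT = Subgroup.closure {gu, gU, gv, gV} := by
  apply le_antisymm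
  · have hu : gu ∈ Subgroup.closure ({gu, gU, gv, gV} : Set (GL Idx (ZMod 2))) :=
      Subgroup.subset_closure (by simp)
    have hU : gU ∈ Subgroup.closure ({gu, gU, gv, gV} : Set (GL Idx (ZMod 2))) :=
      Subgroup.subset_closure (by simp)
    have hv : gv ∈ Subgroup.closure ({gu, gU, gv, gV} : Set (GL Idx (ZMod 2))) :=
      Subgroup.subset_closure (by simp)
    have hV : gV ∈ Subgroup.closure ({gu, gU, gv, gV} : Set (GL Idx (ZMod 2))) :=
      Subgroup.subset_closure (by simp)
    apply twistedF4_le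
    · intro t
      rcases zmod2_cases t with rfl | rfl
      · rw [pair_zero]; exact Subgroup.one_mem _
      · rw [pair_pos_one]; exact hu
    · intro t
      rcases zmod2_cases t with rfl | rfl
      · rw [pair_zero]; exact Subgroup.one_mem _
      · rw [pair_neg_one]; exact hU
    · intro t u
      rcases zmod2_cases t with rfl | rfl <;> rcases zmod2_cases u with rfl | rfl
      · rw [b2_zero_zero]; exact Subgroup.one_mem _
      · rw [b2_pos_01, pos01_eq]; exact Subgroup.mul_mem _ hv hv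
      · rw [b2_pos_10]; exact hv
      · rw [b2_pos_11, pos11_eq]
        exact Subgroup.mul_mem _ (Subgroup.mul_mem _ hv hv) hv
    · intro t u
      rcases zmod2_cases t with rfl | rfl <;> rcases zmod2_cases u with rfl | rfl
      · rw [b2_zero_zero]; exact Subgroup.one_mem _
      · rw [b2_neg_01, neg01_eq]; exact Subgroup.mul_mem _ hV hV
      · rw [b2_neg_10]; exact hV
      · rw [b2_neg_11, neg11_eq]
        exact Subgroup.mul_mem _ (Subgroup.mul_mem _ hV hV) hV
  · rw [Subgroup.closure_le]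
    intro g hg
    simp only [Set.mem_insert_iff, Set.mem_singleton_iff] at hg
    rcases hg with rfl | rfl | rfl | rfl
    · exact gu_mem
    · exact gU_mem
    · exact gv_mem
    · exact gV_mem

end Cfsg.Agent.Helper17.Tits
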