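import Cfsg.Agent.Helper17.Tits.ColAll
import Cfsg.Agent.Helper17.Tits.Roots

/-!
# A homomorphism from `²F₄(2)` onto a group of order two

The orbit of `h_{p₁}` (24960 vectors) carries a colouring with two colours which is preserved by
`gu`, `gU` and reversed by `gv`, `gV` (kernel-checked data, `okPt_all`).  Hence a homomorphism
`chi : ²F₄(2) →* Multiplicative (ZMod 2)` with `chi gv ≠ 1`; in particular `²F₄(2)` is not perfect.
-/

set_option autoImplicit false
set_option linter.all false

namespace Cfsg.Agent.Helper17.Tits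

open Cfsg.Agent.Helper19.TCS Cfsg.Lie Matrix

/-! ### reading the certificate -/

theorem beqB_eq {a b : Bool} (h : beqB a b = true) : a = b := by
  cases a <;> cases b <;> first | rfl | (exfalso; revert h; decide)

theorem okG_spec {app im : ℕ → ℕ} {sh : Bool} {i w : ℕ} (h : okG app im sh i w = true) :
    im i < 24960 ∧ app w = vec (im i) ∧ colB (im i) = xor (colB i) sh := by
  unfold okG at h
  rw [force_eq, bIf_eq_true', bIf_eq_true'] at h
  obtain ⟨h1, h2, h3⟩ := h
  refine ⟨?_, ?_, beqB_eq h3⟩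
  · simpa using h1
  · exact Nat.eq_of_beq_eq_true h2

theorem okPt_spec {i : ℕ} (hi : i < 24960) :
    (img0 i < 24960 ∧ app0 (vec i) = vec (img0 i) ∧ colB (img0 i) = xor (colB i) false) ∧
    (img1 i < 24960 ∧ app1 (vec i) = vec (img1 i) ∧ colB (img1 i) = xor (colB i) false) ∧
    (img2 i < 24960 ∧ app2 (vec i) = vec (img2 i) ∧ colB (img2 i) = xor (colB i) true) ∧
    (img3 i < 24960 ∧ app3 (vec i) = vec (img3 i) ∧ colB (img3 i) = xor (colB i) true) ∧
    (i + 1 < 24960 → vec i < vec (i + 1)) := by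
  have h := okPt_all i hi
  unfold okPt at h
  rw [force_eq, bIf_eq_true', bIf_eq_true', bIf_eq_true', bIf_eq_true'] at h
  obtain ⟨h0, h1, h2, h3, h4⟩ := h
  refine ⟨okG_spec h0, okG_spec h1, okG_spec h2, okG_spec h3, ?_⟩
  intro hlt
  have hb : Nat.blt (Nat.succ i) 24960 = true := by simpa using hlt
  rw [hb, bIf_true] at h4
  simpa using h4

theorem vec_lt (i : ℕ) : vec i < 2 ^ 52 := by
  unfold vec
  rw [force_eq]
  have : Nat.land (Nat.shiftRight (vecSel (Nat.div i 256)) (Nat.mul 52 (Nat.mod i 256)))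
      4503599627370495 ≤ 4503599627370495 := Nat.and_le_right
  omega

theorem vec_strictMono : ∀ j, j < 24960 → ∀ i, i < j → vec i < vec j := by
  intro j
  induction j with
  | zero => intro _ i hi; omega
  | succ j ih =>
    intro hj i hi
    have h1 : vec j < vec (j + 1) := (okPt_spec (by omega : j < 24960)).2.2.2.2 hj
    by_cases hij : i = j
    · subst hij; exact h1
    · exact lt_trans (ih (by omega) i (by omega)) h1

theorem vec_inj {i j : ℕ} (hi : i < 24960) (hj : j < 24960) (h : vec i = vec j) : i = j := by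
  rcases lt_trichotomy i j with h1 | h1 | h1
  · exact absurd h (ne_of_lt (vec_strictMono j hj i h1))
  · exact h1
  · exact absurd h.symm (ne_of_lt (vec_strictMono i hi j h1))

/-! ### the two colour classes -/

/-- the vectors of colour `c`. -/
def Cls (c : Bool) : Set (Idx → ZMod 2) :=
  {v | ∃ i, i < 24960 ∧ colB i = c ∧ v = vecOf (vec i)}

theorem cls_disjoint {c c' : Bool} {v : Idx → ZMod 2} (h : v ∈ Cls c) (h' : v ∈ Cls c') :
    c = c' := by
  obtain ⟨i, hi, hc, rfl⟩ := h
  obtain ⟨j, hj, hc', e⟩ := h'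
  have := vecOf_injOn (vec_lt i) (vec_lt j) e
  have hij := vec_inj hi hj this
  subst hij
  rw [← hc, ← hc']

theorem cls_nonempty : ∃ c v, v ∈ Cls c := ⟨colB 0, _, 0, by norm_num, rfl, rfl⟩

theorem app0_eq (w : ℕ) : app0 w = wapp [33, 24] w := by
  simp only [app0, ap33_eq, ap24_eq]; rfl
theorem app1_eq (w : ℕ) : app1 w = wapp [14, 23] w := by
  simp only [app1, ap14_eq, ap23_eq]; rfl
theorem app2_eq (w : ℕ) : app2 w = wapp [27, 25, 28] w := by
  simp only [app2, ap27_eq, ap25_eq, ap28_eq]; rfl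
theorem app3_eq (w : ℕ) : app3 w = wapp [20, 22, 19] w := by
  simp only [app3, ap20_eq, ap22_eq, ap19_eq]; rfl

/-- a generator with its data maps the class `c` into the class `xor c sh`. -/
theorem act_of_data (rs : List ℕ) (hrs : ∀ r ∈ rs, r ∈ roots12) (app im : ℕ → ℕ) (sh : Bool)
    (happ : ∀ w, app w = wapp rs w)
    (hdata : ∀ i, i < 24960 →
      im i < 24960 ∧ app (vec i) = vec (im i) ∧ colB (im i) = xor (colB i) sh) :
    ∀ c, ∀ v ∈ Cls c,
      ((wprod rs : GL Idx (ZMod 2)) : Matrix Idx Idx (ZMod 2)) *ᵥ v ∈ Cls (xor c sh) := by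
  rintro c v ⟨i, hi, hc, rfl⟩
  obtain ⟨h1, h2, h3⟩ := hdata i hi
  refine ⟨im i, h1, ?_, ?_⟩
  · rw [h3, hc]
  · rw [wprod_mulVec rs hrs, ← happ, h2]

/-- `g` preserves the colours. -/
def Pres (g : GL Idx (ZMod 2)) : Prop :=
  ∀ c, ∀ v ∈ Cls c, (g : Matrix Idx Idx (ZMod 2)) *ᵥ v ∈ Cls c

/-- `g` reverses the colours. -/
def Swp (g : GL Idx (ZMod 2)) : Prop :=
  ∀ c, ∀ v ∈ Cls c, (g : Matrix Idx Idx (ZMod 2)) *ᵥ v ∈ Cls (!c)

theorem pres_gu : Pres gu := by
  intro c v hv
  have := act_of_data [33, 24] (by decide) app0 img0 false app0_eq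
    (fun i hi => (okPt_spec hi).1) c v hv
  rwa [Bool.xor_false] at this

theorem pres_gU : Pres gU := by
  intro c v hv
  have := act_of_data [14, 23] (by decide) app1 img1 false app1_eq
    (fun i hi => (okPt_spec hi).2.1) c v hv
  rwa [Bool.xor_false] at this

theorem swp_gv : Swp gv := by
  intro c v hv
  have := act_of_data [27, 25, 28] (by decide) app2 img2 true app2_eq
    (fun i hi => (okPt_spec hi).2.2.1) c v hv
  rwa [Bool.xor_true] at this

theorem swp_gV : Swp gV := by
  intro c v hv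
  have := act_of_data [20, 22, 19] (by decide) app3 img3 true app3_eq
    (fun i hi => (okPt_spec hi).2.2.2.1) c v hv
  rwa [Bool.xor_true] at this

theorem not_pres_and_swp {g : GL Idx (ZMod 2)} (h1 : Pres g) (h2 : Swp g) : False := by
  obtain ⟨c, v, hv⟩ := cls_nonempty
  have := cls_disjoint (h1 c v hv) (h2 c v hv)
  cases c <;> simp at this

theorem pres_one : Pres 1 := by
  intro c v hv
  simpa using hv

theorem pres_mul {a b : GL Idx (ZMod 2)} (ha : Pres a) (hb : Pres b) : Pres (a * b) := by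
  intro c v hv
  rw [Units.val_mul, ← Matrix.mulVec_mulVec]
  exact ha c _ (hb c v hv)

theorem swp_mul_pres {a b : GL Idx (ZMod 2)} (ha : Swp a) (hb : Pres b) : Swp (a * b) := by
  intro c v hv
  rw [Units.val_mul, ← Matrix.mulVec_mulVec]
  exact ha c _ (hb c v hv)

theorem pres_mul_swp {a b : GL Idx (ZMod 2)} (ha : Pres a) (hb : Swp b) : Swp (a * b) := by
  intro c v hv
  rw [Units.val_mul, ← Matrix.mulVec_mulVec]
  exact ha _ _ (hb c v hv)

theorem swp_mul_swp {a b : GL Idx (ZMod 2)} (ha : Swp a) (hb : Swp b) : Pres (a * b) := by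
  intro c v hv
  rw [Units.val_mul, ← Matrix.mulVec_mulVec]
  have := ha _ _ (hb c v hv)
  rwa [Bool.not_not] at this

theorem pres_or_swp_aux : ∀ g ∈ Submonoid.closure ({gu, gU, gv, gV} : Set (GL Idx (ZMod 2))),
    Pres g ∨ Swp g := by
  intro g hg
  induction hg using Submonoid.closure_induction with
  | mem x hx =>
    simp only [Set.mem_insert_iff, Set.mem_singleton_iff] at hx
    rcases hx with rfl | rfl | rfl | rfl
    · exact Or.inl pres_gu
    · exact Or.inl pres_gU
    · exact Or.inr swp_gv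
    · exact Or.inr swp_gV
  | one => exact Or.inl pres_one
  | mul x y _ _ hx hy =>
    rcases hx with hx | hx <;> rcases hy with hy | hy
    · exact Or.inl (pres_mul hx hy)
    · exact Or.inr (pres_mul_swp hx hy)
    · exact Or.inr (swp_mul_pres hx hy)
    · exact Or.inl (swp_mul_swp hx hy)

/-- every element of `²F₄(2)` preserves or reverses the colours. -/
theorem pres_or_swp {g : GL Idx (ZMod 2)} (hg : g ∈ GT) : Pres g ∨ Swp g := by
  rw [GT_eq_closure] at hg
  have hg' : g ∈ (Subgroup.closure ({gu, gU, gv, gV} : Set (GL Idx (ZMod 2)))).toSubmonoid := hg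
  rw [Subgroup.closure_toSubmonoid_of_finite] at hg'
  exact pres_or_swp_aux g hg'

open Classical in
/-- `1` if `g` reverses the colours, `0` otherwise. -/
noncomputable def sw (g : GL Idx (ZMod 2)) : ZMod 2 := if Swp g then 1 else 0

theorem sw_of_pres {g : GL Idx (ZMod 2)} (h : Pres g) : sw g = 0 := by
  unfold sw
  rw [if_neg (fun h' => not_pres_and_swp h h')]

theorem sw_of_swp {g : GL Idx (ZMod 2)} (h : Swp g) : sw g = 1 := by
  unfold sw
  rw [if_pos h]

theorem one_add_one_zmod2 : (1 : ZMod 2) + 1 = 0 := by decide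

theorem sw_mul {a b : GL Idx (ZMod 2)} (ha : a ∈ GT) (hb : b ∈ GT) :
    sw (a * b) = sw a + sw b := by
  rcases pres_or_swp ha with ha | ha <;> rcases pres_or_swp hb with hb | hb
  · rw [sw_of_pres ha, sw_of_pres hb, sw_of_pres (pres_mul ha hb), add_zero]
  · rw [sw_of_pres ha, sw_of_swp hb, sw_of_swp (pres_mul_swp ha hb), zero_add]
  · rw [sw_of_swp ha, sw_of_pres hb, sw_of_swp (swp_mul_pres ha hb), add_zero]
  · rw [sw_of_swp ha, sw_of_swp hb, sw_of_pres (swp_mul_swp ha hb), one_add_one_zmod2]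

/-- the homomorphism onto a group of order two. -/
noncomputable def chi : ↥GT →* Multiplicative (ZMod 2) :=
  MonoidHom.mk' (fun g => Multiplicative.ofAdd (sw (g : GL Idx (ZMod 2)))) (by
    intro a b
    rw [← ofAdd_add, Subgroup.coe_mul, sw_mul a.2 b.2])

theorem chi_gv : chi ⟨gv, gv_mem⟩ ≠ 1 := by
  intro h
  have h1 : chi ⟨gv, gv_mem⟩ = Multiplicative.ofAdd (1 : ZMod 2) := by
    show Multiplicative.ofAdd (sw gv) = _
    rw [sw_of_swp swp_gv]
  rw [h1] at h
  have h2 : (1 : ZMod 2) = 0 := Multiplicative.ofAdd.injective h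
  revert h2
  decide

/-- `gv` is not a product of commutators. -/
theorem gv_not_mem_commutator : (⟨gv, gv_mem⟩ : ↥GT) ∉ commutator ↥GT := by
  intro h
  have := Abelianization.commutator_subset_ker chi h
  exact chi_gv (MonoidHom.mem_ker.1 this)

end Cfsg.Agent.Helper17.Tits
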