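import Cfsg.Agent.Helper17.Tits.U1Mem

/-!
# The involutions of `²F₄(2)` lie in the derived subgroup

`U ∩ ²F₄(2)` is a Sylow `2`-subgroup of `²F₄(2)`; its involutions lie in the kernel of `chi`, which is
the derived subgroup.
-/

set_option autoImplicit false
set_option linter.all false

namespace Cfsg.Agent.Helper17.Tits

open Cfsg.Lie Matrix

/-- an element of order `2` is conjugate into any subgroup of order the `2`-part of the order of the
group. -/
theorem exists_conj_mem_of_card {G : Type*} [Group G] [Finite G] (P : Subgroup G) (n m : ℕ)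
    (hP : Nat.card P = 2 ^ n) (hG : Nat.card G = 2 ^ n * m) (hm : ¬ 2 ∣ m) (g : G)
    (hg : orderOf g = 2) : ∃ h : G, h * g * h⁻¹ ∈ P := by
  have : Fact (Nat.Prime 2) := ⟨Nat.prime_two⟩
  have hm0 : m ≠ 0 := by rintro rfl; exact hm (dvd_zero 2)
  have hfac : (Nat.card G).factorization 2 = n := by
    rw [hG, Nat.factorization_def _ Nat.prime_two, padicValNat.mul (pow_ne_zero _ two_ne_zero) hm0,
      padicValNat.prime_pow, padicValNat.eq_zero_of_not_dvd hm, add_zero]
  let S : Sylow 2 G := Sylow.ofCard P (by rw [hP, hfac])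
  have hpg : IsPGroup 2 (Subgroup.zpowers g) := by
    apply IsPGroup.of_card (n := 1)
    rw [Nat.card_zpowers, hg, pow_one]
  obtain ⟨Q, hQ⟩ := hpg.exists_le_sylow
  obtain ⟨h, hh⟩ := MulAction.exists_smul_eq G Q S
  have hgQ : g ∈ (Q : Subgroup G) := hQ (Subgroup.mem_zpowers g)
  refine ⟨h, ?_⟩
  have : h * g * h⁻¹ ∈ (S : Subgroup G) := by
    rw [← hh, Sylow.smul_def, Sylow.pointwise_smul_def]
    have := Subgroup.smul_mem_pointwise_smul g (MulAut.conj h) (Q : Subgroup G) hgQ
    simpa using this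
  exact this

/-- a homomorphism onto a non-trivial abelian group whose kernel contains the derived subgroup of
index `2` has the derived subgroup as its kernel. -/
theorem ker_eq_of_index_two {G : Type*} [Group G] {A : Type*} [CommGroup A] (f : G →* A)
    (hidx : (commutator G).index = 2) (hne : ∃ x, f x ≠ 1) : f.ker = commutator G := by
  have hle : commutator G ≤ f.ker := Abelianization.commutator_subset_ker f
  have h1 : f.ker.index ∣ (commutator G).index := Subgroup.index_dvd_of_le hle
  rw [hidx] at h1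
  have h2 : f.ker.index ≠ 1 := by
    intro h
    rw [Subgroup.index_eq_one] at h
    obtain ⟨x, hx⟩ := hne
    apply hx
    have : x ∈ f.ker := by rw [h]; trivial
    exact MonoidHom.mem_ker.1 this
  have h3 : f.ker.index = 2 := by
    rcases (Nat.dvd_prime Nat.prime_two).1 h1 with h | h
    · exact absurd h h2
    · exact h
  have h4 := Subgroup.relIndex_mul_index hle
  rw [hidx, h3] at h4
  have h5 : (commutator G).relIndex f.ker = 1 := by omega
  exact le_antisymm (Subgroup.relIndex_eq_one.1 h5) hle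

theorem ker_chi : chi.ker = commutator ↥GT :=
  ker_eq_of_index_two chi index_commutator ⟨_, chi_gv⟩

/-- the Sylow `2`-subgroup `U ∩ ²F₄(2)` as a subgroup of `²F₄(2)`. -/
noncomputable def P1 : Subgroup ↥GT := U1.subgroupOf GT

theorem card_P1 : Nat.card ↥P1 = 2 ^ 12 := by
  have h1 : Nat.card ↥P1 = Nat.card ↥U1 :=
    Nat.card_congr (Subgroup.subgroupOfEquivOfLe (inf_le_right : U1 ≤ GT)).toEquiv
  rw [h1, card_U1]
  norm_num

theorem chi_eq_one_of_mem_P1 {y : ↥GT} (hy : y ∈ P1) (hsq : y * y = 1) : chi y = 1 := by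
  have hy' : (y : GL Idx (ZMod 2)) ∈ U1 := Subgroup.mem_subgroupOf.1 hy
  have hsq' : (y : GL Idx (ZMod 2)) * (y : GL Idx (ZMod 2)) = 1 := by
    rw [← Subgroup.coe_mul, hsq, Subgroup.coe_one]
  have hp : Pres (y : GL Idx (ZMod 2)) := pres_of_sq hy' hsq'
  show Multiplicative.ofAdd (sw (y : GL Idx (ZMod 2))) = 1
  rw [sw_of_pres hp]
  rfl

/-- every element of order `2` of `²F₄(2)` lies in the derived subgroup. -/
theorem invol_mem_commutator (g : ↥GT) (hg : orderOf g = 2) : g ∈ commutator ↥GT := by
  obtain ⟨h, hh⟩ := exists_conj_mem_of_card P1 12 8775 card_P1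
    (by rw [card_GT]; norm_num) (by norm_num) g hg
  have hg2 : g * g = 1 := by
    have := pow_orderOf_eq_one g
    rw [hg, pow_two] at this
    exact this
  have hsq : (h * g * h⁻¹) * (h * g * h⁻¹) = 1 := by
    have e : (h * g * h⁻¹) * (h * g * h⁻¹) = h * (g * g) * h⁻¹ := by group
    rw [e, hg2]; group
  have h1 := chi_eq_one_of_mem_P1 hh hsq
  rw [map_mul, map_mul, map_inv, mul_comm, ← mul_assoc, inv_mul_cancel, one_mul] at h1
  rw [← ker_chi]
  exact MonoidHom.mem_ker.2 h1

end Cfsg.Agent.Helper17.Tits
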