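import Cfsg.Agent.Helper17.Tits.Colour
import Cfsg.Agent.Helper17.Tits.BN
import Cfsg.Agent.Helper17.Tits.Abs

/-!
# The Tits group

The derived subgroup of `²F₄(2)` has index `2` and is simple of order `17971200`.
-/

set_option autoImplicit false
set_option linter.all false
set_option maxRecDepth 100000

namespace Cfsg.Agent.Helper17.Tits

open Cfsg.Lie Matrix
open scoped commutatorElement

/-! ### identities between the generators (checked on the 52 basis masks) -/

theorem id4 : gU * (gu * gU) = (gu * gU) * gu := by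
  simp only [gu, gU, ← wprod_append]
  exact wprod_eq _ _ (by decide) (by decide) (by decide +kernel)

theorem id3 : gV * (gv * gV * gV) = (gv * gV * gV) * gv := by
  simp only [gv, gV, ← wprod_append]
  exact wprod_eq _ _ (by decide) (by decide) (by decide +kernel)

/-- `u = k [v², g] k⁻¹` with `k = v V V u v u U`, `g = u v u`, in the form `u k g v² = k v² g`. -/
theorem id1 : gu * (gv * gV * gV * gu * gv * gu * gU) * (gu * gv * gu) * (gv * gv) =
    (gv * gV * gV * gu * gv * gu * gU) * (gv * gv) * (gu * gv * gu) := by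
  simp only [gu, gU, gv, gV, ← wprod_append]
  exact wprod_eq _ _ (by decide) (by decide) (by decide +kernel)

/-- `v² = k [v², g] k⁻¹` with `k = u v U V u v U u`, `g = V v v U u`. -/
theorem id2 : (gv * gv) * (gu * gv * gU * gV * gu * gv * gU * gu) * (gV * gv * gv * gU * gu) *
      (gv * gv) =
    (gu * gv * gU * gV * gu * gv * gU * gu) * (gv * gv) * (gV * gv * gv * gU * gu) := by
  simp only [gu, gU, gv, gV, ← wprod_append]
  exact wprod_eq _ _ (by decide) (by decide) (by decide +kernel)

/-! ### the generators as elements of `²F₄(2)` -/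

def tu : ↥GT := ⟨gu, gu_mem⟩
def tU : ↥GT := ⟨gU, gU_mem⟩
def tv : ↥GT := ⟨gv, gv_mem⟩
def tV : ↥GT := ⟨gV, gV_mem⟩

theorem tu_val : (tu : GL Idx (ZMod 2)) = gu := rfl
theorem tU_val : (tU : GL Idx (ZMod 2)) = gU := rfl
theorem tv_val : (tv : GL Idx (ZMod 2)) = gv := rfl
theorem tV_val : (tV : GL Idx (ZMod 2)) = gV := rfl

seal gu gU gv gV tu tU tv tV

theorem conj_comm_of_eq {G : Type*} [Group G] {x a k g : G} (h : x * k * g * a = k * a * g) :
    x = k * ⁅a, g⁆ * k⁻¹ := by
  have e : k * ⁅a, g⁆ * k⁻¹ = (k * a * g) * (a⁻¹ * g⁻¹ * k⁻¹) := by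
    rw [commutatorElement_def]; group
  rw [e, ← h]
  group

theorem mem_commutator_of_eq {G : Type*} [Group G] {x a k g : G}
    (h : x * k * g * a = k * a * g) : x ∈ commutator G := by
  rw [conj_comm_of_eq h]
  exact (inferInstance : (commutator G).Normal).conj_mem _
    (Subgroup.commutator_mem_commutator (Subgroup.mem_top _) (Subgroup.mem_top _)) _

theorem mem_commutator_of_conj {G : Type*} [Group G] {x y k : G} (hy : y ∈ commutator G)
    (h : x * k = k * y) : x ∈ commutator G := by
  have e : x = k * y * k⁻¹ := by rw [← h]; group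
  rw [e]
  exact (inferInstance : (commutator G).Normal).conj_mem _ hy _

theorem mul_inv_mem_commutator_of_eq {G : Type*} [Group G] {x y k : G}
    (h : x * k = k * y) : x * y⁻¹ ∈ commutator G := by
  have e : x * y⁻¹ = ⁅k, y⁆ := by
    rw [commutatorElement_def, ← h]; group
  rw [e]
  exact Subgroup.commutator_mem_commutator (Subgroup.mem_top _) (Subgroup.mem_top _)

/-- if a normal subgroup `N` together with one element `v`, `v * v ∈ N`, generates the group,
then the index of `N` divides `2`. -/
theorem index_dvd_two_of_gen {G : Type*} [Group G] [Finite G] (N : Subgroup G) [N.Normal] (v : G)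
    (hv2 : v * v ∈ N) (htop : ∀ L : Subgroup G, N ≤ L → v ∈ L → L = ⊤) : N.index ∣ 2 := by
  have hL : (Subgroup.zpowers (QuotientGroup.mk' N v)).comap (QuotientGroup.mk' N) = ⊤ := by
    apply htop
    · intro n hn
      rw [Subgroup.mem_comap]
      have e : QuotientGroup.mk' N n = 1 := (QuotientGroup.eq_one_iff n).2 hn
      rw [e]
      exact Subgroup.one_mem _
    · rw [Subgroup.mem_comap]; exact Subgroup.mem_zpowers _
  have hz : Subgroup.zpowers (QuotientGroup.mk' N v) = ⊤ := by
    rw [eq_top_iff]
    intro q _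
    obtain ⟨g, rfl⟩ := QuotientGroup.mk'_surjective N q
    have : g ∈ (Subgroup.zpowers (QuotientGroup.mk' N v)).comap (QuotientGroup.mk' N) := by
      rw [hL]; trivial
    exact this
  have hsq : (QuotientGroup.mk' N v) ^ 2 = 1 := by
    rw [← map_pow, pow_two]
    exact (QuotientGroup.eq_one_iff (v * v)).2 hv2
  have hcard : Nat.card (G ⧸ N) ∣ 2 := by
    rw [← Nat.card_congr (Subgroup.topEquiv (G := G ⧸ N)).toEquiv, ← hz, Nat.card_zpowers]
    exact orderOf_dvd_of_pow_eq_one hsq
  rw [Subgroup.index_eq_card]; exact hcard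

theorem hid2 : (tv * tv) * (tu * tv * tU * tV * tu * tv * tU * tu) * (tV * tv * tv * tU * tu) *
      (tv * tv) =
      (tu * tv * tU * tV * tu * tv * tU * tu) * (tv * tv) * (tV * tv * tv * tU * tu) :=
  Subtype.ext (by
    simp only [Subgroup.coe_mul, tu_val, tU_val, tv_val, tV_val]
    exact id2)

theorem hid1 : tu * (tv * tV * tV * tu * tv * tu * tU) * (tu * tv * tu) * (tv * tv) =
      (tv * tV * tV * tu * tv * tu * tU) * (tv * tv) * (tu * tv * tu) :=
  Subtype.ext (by
    simp only [Subgroup.coe_mul, tu_val, tU_val, tv_val, tV_val]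
    exact id1)

theorem hid4 : tU * (tu * tU) = (tu * tU) * tu :=
  Subtype.ext (by
    simp only [Subgroup.coe_mul, tu_val, tU_val]
    exact id4)

theorem hid3 : tV * (tv * tV * tV) = (tv * tV * tV) * tv :=
  Subtype.ext (by
    simp only [Subgroup.coe_mul, tv_val, tV_val]
    exact id3)

theorem tv_sq_mem : tv * tv ∈ commutator ↥GT := mem_commutator_of_eq (G := ↥GT) hid2

theorem tu_mem : tu ∈ commutator ↥GT := mem_commutator_of_eq (G := ↥GT) hid1

theorem tU_mem : tU ∈ commutator ↥GT := mem_commutator_of_conj (G := ↥GT) tu_mem hid4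

theorem tV_mul_inv_mem : tV * tv⁻¹ ∈ commutator ↥GT :=
  mul_inv_mem_commutator_of_eq (G := ↥GT) hid3

/-- a subgroup of `²F₄(2)` containing the four generators is everything. -/
theorem eq_top_of_gens (L : Subgroup ↥GT) (h1 : tu ∈ L) (h2 : tU ∈ L) (h3 : tv ∈ L)
    (h4 : tV ∈ L) : L = ⊤ := by
  have hsub : ({gu, gU, gv, gV} : Set (GL Idx (ZMod 2))) ⊆
      ((L.map (Subgroup.subtype GT) : Subgroup (GL Idx (ZMod 2))) : Set (GL Idx (ZMod 2))) := by
    intro x hx
    simp only [Set.mem_insert_iff, Set.mem_singleton_iff] at hx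
    rcases hx with hx | hx | hx | hx
    · exact ⟨tu, h1, by rw [hx, Subgroup.subtype_apply, tu_val]⟩
    · exact ⟨tU, h2, by rw [hx, Subgroup.subtype_apply, tU_val]⟩
    · exact ⟨tv, h3, by rw [hx, Subgroup.subtype_apply, tv_val]⟩
    · exact ⟨tV, h4, by rw [hx, Subgroup.subtype_apply, tV_val]⟩
  have hle : Subgroup.closure ({gu, gU, gv, gV} : Set (GL Idx (ZMod 2))) ≤
      L.map (Subgroup.subtype GT) := (Subgroup.closure_le _).2 hsub
  rw [eq_top_iff]
  intro x _
  have hx : (x : GL Idx (ZMod 2)) ∈
      Subgroup.closure ({gu, gU, gv, gV} : Set (GL Idx (ZMod 2))) :=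
    GT_eq_closure ▸ x.2
  obtain ⟨y, hy, hyx⟩ := hle hx
  rw [Subgroup.subtype_apply] at hyx
  have e : y = x := Subtype.ext hyx
  rw [← e]; exact hy

instance : Finite ↥GT := inferInstance

theorem tv_not_mem : tv ∉ commutator ↥GT := by
  have e : tv = (⟨gv, gv_mem⟩ : ↥GT) := Subtype.ext tv_val
  rw [e]; exact gv_not_mem_commutator

/-- the index of the derived subgroup is `2`. -/
theorem index_commutator : (commutator ↥GT).index = 2 := by
  have hidx : (commutator ↥GT).index ∣ 2 := by
    apply index_dvd_two_of_gen (G := ↥GT) (commutator ↥GT) tv tv_sq_mem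
    intro L hL hv
    apply eq_top_of_gens L (hL tu_mem) (hL tU_mem) hv
    have e : tV = (tV * tv⁻¹) * tv := by group
    rw [e]
    exact L.mul_mem (hL tV_mul_inv_mem) hv
  have hne : (commutator ↥GT).index ≠ 1 := by
    intro h
    rw [Subgroup.index_eq_one] at h
    apply tv_not_mem
    rw [h]
    trivial
  rcases (Nat.dvd_prime Nat.prime_two).1 hidx with h | h
  · exact absurd h hne
  · exact h

theorem card_GT : Nat.card ↥GT = 35942400 := card_GT'

theorem card_commutator : Nat.card ↥(commutator ↥GT) = 17971200 := by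
  have h := Subgroup.card_mul_index (commutator ↥GT)
  rw [index_commutator, card_GT] at h
  omega

theorem not_isSquare_card : ¬ IsSquare (Nat.card ↥(commutator ↥GT)) := by
  rw [card_commutator]
  rintro ⟨r, hr⟩
  have : r ≤ 4239 ∨ 4240 ≤ r := by omega
  rcases this with h | h <;> nlinarith

theorem isSimpleGroup_tits : IsSimpleGroup ↥(commutator ↥GT) :=
  isSimpleGroup_commutator (fun K hK hne => normal_index_pow_two K hK hne) index_commutator
    not_isSquare_card

theorem not_comm_tits : ¬ IsMulCommutative ↥(commutator ↥GT) := by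
  intro h
  haveI := isSimpleGroup_tits
  letI : CommGroup ↥(commutator ↥GT) :=
    { (inferInstance : Group ↥(commutator ↥GT)) with mul_comm := fun a b => h.is_comm.comm a b }
  have hp : (Nat.card ↥(commutator ↥GT)).Prime := IsSimpleGroup.prime_card
  rw [card_commutator] at hp
  exact absurd hp (by norm_num)

end Cfsg.Agent.Helper17.Tits
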