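import Cfsg.Agent.Helper17.Tits.Bits
import Cfsg.Agent.Helper19.TCR.StaticDefs

/-! The twelve root elements `x_r(1)` of `F₄(2)` used by the generators of `²F₄(2)`, as lists of
pairs for `applyX`. Data only. -/

set_option autoImplicit false
set_option linter.all false

namespace Cfsg.Agent.Helper17.Tits

def c33 : List (ℕ × ℕ) := [(1, 0x2000000000), (7, 0x800), (8, 0x81000), (9, 0x102000), (10, 0x204000), (15, 0x400000), (16, 0x800000), (17, 0x1000000), (18, 0x2000000001), (31, 0x4000000000), (32, 0x8000000000), (33, 0x10000000000), (34, 0x220000000000), (35, 0x440000000000), (36, 0x880000000000), (44, 0x1000000000000)]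
def c24 : List (ℕ × ℕ) := [(2, 0x10000000), (4, 0x20), (9, 0x400), (13, 0x4000), (15, 0x10000), (20, 0x200000), (22, 0x800000), (25, 0x4000000), (27, 0x10000008), (29, 0x40000000), (32, 0x200000000), (34, 0x800000000), (39, 0x10000000000), (41, 0x40000000000), (45, 0x400000000000), (50, 0x8000000000000)]
def c14 : List (ℕ × ℕ) := [(1, 0x40000), (11, 0x80), (19, 0x1100), (20, 0x2200), (21, 0x4400), (22, 0x8000), (23, 0x10000), (24, 0x20000), (37, 0x40001), (38, 0x80000000), (39, 0x100000000), (40, 0x200000000), (45, 0x20400000000), (46, 0x40800000000), (47, 0x81000000000), (48, 0x100000000000)]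
def c23 : List (ℕ × ℕ) := [(2, 0x8000000), (5, 0x10), (10, 0x200), (14, 0x2000), (16, 0x8000), (21, 0x100000), (23, 0x400000), (26, 0x2000000), (28, 0x8000008), (30, 0x20000000), (33, 0x100000000), (35, 0x400000000), (40, 0x8000000000), (42, 0x20000000000), (46, 0x200000000000), (51, 0x4000000000000)]
def c27 : List (ℕ × ℕ) := [(0, 0x80000000), (2, 0x80000000), (6, 0x180), (11, 0x1000), (13, 0x8000), (14, 0x10000), (17, 0x40000), (20, 0x2400000), (21, 0x4800000), (24, 0x80000002), (29, 0x500000000), (30, 0xa00000000), (37, 0x4000000000), (39, 0x20000000000), (40, 0x40000000000), (43, 0x100000000000), (47, 0x3000000000000)]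
def c25 : List (ℕ × ℕ) := [(3, 0x20000000), (5, 0x40), (8, 0x200), (12, 0x2000), (16, 0x20000), (19, 0x100000), (23, 0x1000000), (25, 0x8000000), (26, 0x20000004), (28, 0x40000000), (31, 0x100000000), (35, 0x1000000000), (38, 0x8000000000), (42, 0x80000000000), (46, 0x800000000000), (49, 0x4000000000000)]
def c28 : List (ℕ × ℕ) := [(0, 0x100000000), (2, 0x100000000), (3, 0x100000000), (5, 0x280), (11, 0x2000), (12, 0x8000), (14, 0x20000), (16, 0x40000), (19, 0x8400000), (21, 0x21000000), (23, 0x100000002), (26, 0x480000000), (28, 0x1200000000), (37, 0x8000000000), (38, 0x20000000000), (40, 0x80000000000), (42, 0x100000000000), (46, 0x5000000000000)]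
def c30 : List (ℕ × ℕ) := [(3, 0x400000000), (5, 0x100), (6, 0x200), (11, 0x8000), (14, 0x40000), (19, 0x2000000), (20, 0x8000000), (21, 0x400000006), (23, 0x80000000), (24, 0x100000000), (28, 0x800000000), (30, 0x1000000000), (37, 0x20000000000), (40, 0x100000000000), (46, 0x2000000000000), (47, 0x4000000000000)]
def c20 : List (ℕ × ℕ) := [(0, 0x1000000), (2, 0x1000000), (8, 0xc0), (12, 0x800), (15, 0x2000), (16, 0x4000), (18, 0x20000), (25, 0x500000), (26, 0xa00000), (31, 0x1000002), (34, 0x120000000), (35, 0x240000000), (38, 0x2000000000), (41, 0x8000000000), (42, 0x10000000000), (44, 0x80000000000), (49, 0x1800000000000)]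
def c22 : List (ℕ × ℕ) := [(3, 0x4000000), (6, 0x20), (9, 0x100), (13, 0x1000), (17, 0x10000), (20, 0x80000), (24, 0x800000), (27, 0x2000000), (29, 0x4000004), (30, 0x10000000), (32, 0x80000000), (36, 0x800000000), (39, 0x4000000000), (43, 0x40000000000), (47, 0x400000000000), (50, 0x2000000000000)]
def c19 : List (ℕ × ℕ) := [(0, 0x800000), (2, 0x800000), (3, 0x800000), (9, 0xa0), (13, 0x800), (15, 0x1000), (17, 0x4000), (18, 0x10000), (27, 0x480000), (29, 0x1200000), (32, 0x800002), (34, 0x84000000), (36, 0x210000000), (39, 0x2000000000), (41, 0x4000000000), (43, 0x10000000000), (44, 0x40000000000), (50, 0x1400000000000)]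
def c17 : List (ℕ × ℕ) := [(3, 0x200000), (8, 0x20), (9, 0x40), (15, 0x800), (18, 0x4000), (25, 0x80000), (27, 0x100000), (31, 0x800000), (32, 0x1000000), (34, 0x200006), (35, 0x10000000), (36, 0x40000000), (41, 0x2000000000), (44, 0x10000000000), (49, 0x400000000000), (50, 0x800000000000)]

open Cfsg.Agent.Helper19.TCS in
/-- one step of `applyX`, by raw operations (fast in the kernel). -/
noncomputable def stepX (n j m acc : Nat) : Nat :=
  Nat.rec (motive := fun _ => Nat) acc (fun _ _ => Nat.xor acc m) (Nat.land (Nat.shiftRight n j) 1)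

theorem stepX_eq (n j m acc : ℕ) : stepX n j m acc = cond (n.testBit j) (acc ^^^ m) acc := by
  unfold stepX
  have h : Nat.land (Nat.shiftRight n j) 1 = (n >>> j) % 2 := Nat.and_one_is_mod _
  rw [h]
  have ht : n.testBit j = decide ((n >>> j) % 2 = 1) := by
    rw [Nat.testBit_eq_decide_div_mod_eq, Nat.shiftRight_eq_div_pow]
  rw [ht]
  rcases Nat.mod_two_eq_zero_or_one (n >>> j) with h0 | h1
  · rw [h0]; rfl
  · rw [h1]; rfl

open Cfsg.Agent.Helper19.TCS in
noncomputable def ap33 (w : Nat) : Nat := force w (fun n => stepX n 44 0x1000000000000 (stepX n 36 0x880000000000 (stepX n 35 0x440000000000 (stepX n 34 0x220000000000 (stepX n 33 0x10000000000 (stepX n 32 0x8000000000 (stepX n 31 0x4000000000 (stepX n 18 0x2000000001 (stepX n 17 0x1000000 (stepX n 16 0x800000 (stepX n 15 0x400000 (stepX n 10 0x204000 (stepX n 9 0x102000 (stepX n 8 0x81000 (stepX n 7 0x800 (stepX n 1 0x2000000000 (n)))))))))))))))))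
open Cfsg.Agent.Helper19.TCS in
theorem ap33_eq (n : ℕ) : ap33 n = applyX c33 n := by
  simp only [ap33, force_eq, stepX_eq, applyX, c33, List.foldl_cons, List.foldl_nil]
open Cfsg.Agent.Helper19.TCS in
noncomputable def ap24 (w : Nat) : Nat := force w (fun n => stepX n 50 0x8000000000000 (stepX n 45 0x400000000000 (stepX n 41 0x40000000000 (stepX n 39 0x10000000000 (stepX n 34 0x800000000 (stepX n 32 0x200000000 (stepX n 29 0x40000000 (stepX n 27 0x10000008 (stepX n 25 0x4000000 (stepX n 22 0x800000 (stepX n 20 0x200000 (stepX n 15 0x10000 (stepX n 13 0x4000 (stepX n 9 0x400 (stepX n 4 0x20 (stepX n 2 0x10000000 (n)))))))))))))))))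
open Cfsg.Agent.Helper19.TCS in
theorem ap24_eq (n : ℕ) : ap24 n = applyX c24 n := by
  simp only [ap24, force_eq, stepX_eq, applyX, c24, List.foldl_cons, List.foldl_nil]
open Cfsg.Agent.Helper19.TCS in
noncomputable def ap14 (w : Nat) : Nat := force w (fun n => stepX n 48 0x100000000000 (stepX n 47 0x81000000000 (stepX n 46 0x40800000000 (stepX n 45 0x20400000000 (stepX n 40 0x200000000 (stepX n 39 0x100000000 (stepX n 38 0x80000000 (stepX n 37 0x40001 (stepX n 24 0x20000 (stepX n 23 0x10000 (stepX n 22 0x8000 (stepX n 21 0x4400 (stepX n 20 0x2200 (stepX n 19 0x1100 (stepX n 11 0x80 (stepX n 1 0x40000 (n)))))))))))))))))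
open Cfsg.Agent.Helper19.TCS in
theorem ap14_eq (n : ℕ) : ap14 n = applyX c14 n := by
  simp only [ap14, force_eq, stepX_eq, applyX, c14, List.foldl_cons, List.foldl_nil]
open Cfsg.Agent.Helper19.TCS in
noncomputable def ap23 (w : Nat) : Nat := force w (fun n => stepX n 51 0x4000000000000 (stepX n 46 0x200000000000 (stepX n 42 0x20000000000 (stepX n 40 0x8000000000 (stepX n 35 0x400000000 (stepX n 33 0x100000000 (stepX n 30 0x20000000 (stepX n 28 0x8000008 (stepX n 26 0x2000000 (stepX n 23 0x400000 (stepX n 21 0x100000 (stepX n 16 0x8000 (stepX n 14 0x2000 (stepX n 10 0x200 (stepX n 5 0x10 (stepX n 2 0x8000000 (n)))))))))))))))))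
open Cfsg.Agent.Helper19.TCS in
theorem ap23_eq (n : ℕ) : ap23 n = applyX c23 n := by
  simp only [ap23, force_eq, stepX_eq, applyX, c23, List.foldl_cons, List.foldl_nil]
open Cfsg.Agent.Helper19.TCS in
noncomputable def ap27 (w : Nat) : Nat := force w (fun n => stepX n 47 0x3000000000000 (stepX n 43 0x100000000000 (stepX n 40 0x40000000000 (stepX n 39 0x20000000000 (stepX n 37 0x4000000000 (stepX n 30 0xa00000000 (stepX n 29 0x500000000 (stepX n 24 0x80000002 (stepX n 21 0x4800000 (stepX n 20 0x2400000 (stepX n 17 0x40000 (stepX n 14 0x10000 (stepX n 13 0x8000 (stepX n 11 0x1000 (stepX n 6 0x180 (stepX n 2 0x80000000 (stepX n 0 0x80000000 (n))))))))))))))))))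
open Cfsg.Agent.Helper19.TCS in
theorem ap27_eq (n : ℕ) : ap27 n = applyX c27 n := by
  simp only [ap27, force_eq, stepX_eq, applyX, c27, List.foldl_cons, List.foldl_nil]
open Cfsg.Agent.Helper19.TCS in
noncomputable def ap25 (w : Nat) : Nat := force w (fun n => stepX n 49 0x4000000000000 (stepX n 46 0x800000000000 (stepX n 42 0x80000000000 (stepX n 38 0x8000000000 (stepX n 35 0x1000000000 (stepX n 31 0x100000000 (stepX n 28 0x40000000 (stepX n 26 0x20000004 (stepX n 25 0x8000000 (stepX n 23 0x1000000 (stepX n 19 0x100000 (stepX n 16 0x20000 (stepX n 12 0x2000 (stepX n 8 0x200 (stepX n 5 0x40 (stepX n 3 0x20000000 (n)))))))))))))))))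
open Cfsg.Agent.Helper19.TCS in
theorem ap25_eq (n : ℕ) : ap25 n = applyX c25 n := by
  simp only [ap25, force_eq, stepX_eq, applyX, c25, List.foldl_cons, List.foldl_nil]
open Cfsg.Agent.Helper19.TCS in
noncomputable def ap28 (w : Nat) : Nat := force w (fun n => stepX n 46 0x5000000000000 (stepX n 42 0x100000000000 (stepX n 40 0x80000000000 (stepX n 38 0x20000000000 (stepX n 37 0x8000000000 (stepX n 28 0x1200000000 (stepX n 26 0x480000000 (stepX n 23 0x100000002 (stepX n 21 0x21000000 (stepX n 19 0x8400000 (stepX n 16 0x40000 (stepX n 14 0x20000 (stepX n 12 0x8000 (stepX n 11 0x2000 (stepX n 5 0x280 (stepX n 3 0x100000000 (stepX n 2 0x100000000 (stepX n 0 0x100000000 (n)))))))))))))))))))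
open Cfsg.Agent.Helper19.TCS in
theorem ap28_eq (n : ℕ) : ap28 n = applyX c28 n := by
  simp only [ap28, force_eq, stepX_eq, applyX, c28, List.foldl_cons, List.foldl_nil]
open Cfsg.Agent.Helper19.TCS in
noncomputable def ap30 (w : Nat) : Nat := force w (fun n => stepX n 47 0x4000000000000 (stepX n 46 0x2000000000000 (stepX n 40 0x100000000000 (stepX n 37 0x20000000000 (stepX n 30 0x1000000000 (stepX n 28 0x800000000 (stepX n 24 0x100000000 (stepX n 23 0x80000000 (stepX n 21 0x400000006 (stepX n 20 0x8000000 (stepX n 19 0x2000000 (stepX n 14 0x40000 (stepX n 11 0x8000 (stepX n 6 0x200 (stepX n 5 0x100 (stepX n 3 0x400000000 (n)))))))))))))))))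
open Cfsg.Agent.Helper19.TCS in
theorem ap30_eq (n : ℕ) : ap30 n = applyX c30 n := by
  simp only [ap30, force_eq, stepX_eq, applyX, c30, List.foldl_cons, List.foldl_nil]
open Cfsg.Agent.Helper19.TCS in
noncomputable def ap20 (w : Nat) : Nat := force w (fun n => stepX n 49 0x1800000000000 (stepX n 44 0x80000000000 (stepX n 42 0x10000000000 (stepX n 41 0x8000000000 (stepX n 38 0x2000000000 (stepX n 35 0x240000000 (stepX n 34 0x120000000 (stepX n 31 0x1000002 (stepX n 26 0xa00000 (stepX n 25 0x500000 (stepX n 18 0x20000 (stepX n 16 0x4000 (stepX n 15 0x2000 (stepX n 12 0x800 (stepX n 8 0xc0 (stepX n 2 0x1000000 (stepX n 0 0x1000000 (n))))))))))))))))))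
open Cfsg.Agent.Helper19.TCS in
theorem ap20_eq (n : ℕ) : ap20 n = applyX c20 n := by
  simp only [ap20, force_eq, stepX_eq, applyX, c20, List.foldl_cons, List.foldl_nil]
open Cfsg.Agent.Helper19.TCS in
noncomputable def ap22 (w : Nat) : Nat := force w (fun n => stepX n 50 0x2000000000000 (stepX n 47 0x400000000000 (stepX n 43 0x40000000000 (stepX n 39 0x4000000000 (stepX n 36 0x800000000 (stepX n 32 0x80000000 (stepX n 30 0x10000000 (stepX n 29 0x4000004 (stepX n 27 0x2000000 (stepX n 24 0x800000 (stepX n 20 0x80000 (stepX n 17 0x10000 (stepX n 13 0x1000 (stepX n 9 0x100 (stepX n 6 0x20 (stepX n 3 0x4000000 (n)))))))))))))))))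
open Cfsg.Agent.Helper19.TCS in
theorem ap22_eq (n : ℕ) : ap22 n = applyX c22 n := by
  simp only [ap22, force_eq, stepX_eq, applyX, c22, List.foldl_cons, List.foldl_nil]
open Cfsg.Agent.Helper19.TCS in
noncomputable def ap19 (w : Nat) : Nat := force w (fun n => stepX n 50 0x1400000000000 (stepX n 44 0x40000000000 (stepX n 43 0x10000000000 (stepX n 41 0x4000000000 (stepX n 39 0x2000000000 (stepX n 36 0x210000000 (stepX n 34 0x84000000 (stepX n 32 0x800002 (stepX n 29 0x1200000 (stepX n 27 0x480000 (stepX n 18 0x10000 (stepX n 17 0x4000 (stepX n 15 0x1000 (stepX n 13 0x800 (stepX n 9 0xa0 (stepX n 3 0x800000 (stepX n 2 0x800000 (stepX n 0 0x800000 (n)))))))))))))))))))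
open Cfsg.Agent.Helper19.TCS in
theorem ap19_eq (n : ℕ) : ap19 n = applyX c19 n := by
  simp only [ap19, force_eq, stepX_eq, applyX, c19, List.foldl_cons, List.foldl_nil]
open Cfsg.Agent.Helper19.TCS in
noncomputable def ap17 (w : Nat) : Nat := force w (fun n => stepX n 50 0x800000000000 (stepX n 49 0x400000000000 (stepX n 44 0x10000000000 (stepX n 41 0x2000000000 (stepX n 36 0x40000000 (stepX n 35 0x10000000 (stepX n 34 0x200006 (stepX n 32 0x1000000 (stepX n 31 0x800000 (stepX n 27 0x100000 (stepX n 25 0x80000 (stepX n 18 0x4000 (stepX n 15 0x800 (stepX n 9 0x40 (stepX n 8 0x20 (stepX n 3 0x200000 (n)))))))))))))))))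
open Cfsg.Agent.Helper19.TCS in
theorem ap17_eq (n : ℕ) : ap17 n = applyX c17 n := by
  simp only [ap17, force_eq, stepX_eq, applyX, c17, List.foldl_cons, List.foldl_nil]

/-- the pairs of the root `r`. -/
def cols : ℕ → List (ℕ × ℕ)
  | 33 => c33
  | 24 => c24
  | 14 => c14
  | 23 => c23
  | 27 => c27
  | 25 => c25
  | 28 => c28
  | 30 => c30
  | 20 => c20
  | 22 => c22
  | 19 => c19
  | 17 => c17
  | _ => []

/-- the twelve roots. -/
def roots12 : List ℕ := [33, 24, 14, 23, 27, 25, 28, 30, 20, 22, 19, 17]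

end Cfsg.Agent.Helper17.Tits
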