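import Cfsg.Agent.Helper17.Tits.RootData

/-! Eighteen more root elements `x_r(1)` of `F₄(2)` (the positive roots met by the twisted root
subgroups of `²F₄(2)`), as lists of pairs for `applyX`. Data only. -/

set_option autoImplicit false
set_option linter.all false

namespace Cfsg.Agent.Helper17.Tits

def c37 : List (ℕ × ℕ) := [(1, 0x20000000000), (3, 0x20000000000), (5, 0x2001000), (6, 0x8002000), (7, 0x8000), (10, 0x400040000), (11, 0x400000), (14, 0x20000000001), (16, 0x80000000), (17, 0x100000000), (21, 0x202000000000), (23, 0x4000000000), (24, 0x8000000000), (28, 0x2040000000000), (30, 0x4080000000000), (33, 0x100000000000), (40, 0x1000000000000)]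
def c32 : List (ℕ × ℕ) := [(2, 0x1000000000), (4, 0x200), (5, 0x400), (11, 0x20000), (12, 0x40000), (19, 0x100000000a), (20, 0x20000000), (21, 0x40000000), (22, 0x100000000), (23, 0x200000000), (25, 0x400000000), (26, 0x800000000), (37, 0x80000000000), (38, 0x100000000000), (45, 0x4000000000000), (46, 0x8000000000000)]
def c38 : List (ℕ × ℕ) := [(1, 0x40000000000), (2, 0x40000000000), (3, 0x40000000000), (4, 0x4001000), (6, 0x10004000), (7, 0x10000), (9, 0x800040000), (11, 0x800000), (13, 0x40000000001), (15, 0x80000000), (17, 0x200000000), (20, 0x402000000000), (22, 0x4000000000), (24, 0x10000000000), (27, 0x2020000000000), (29, 0x8080000000000), (32, 0x100000000000), (39, 0x1000000000000)]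
def c43 : List (ℕ × ℕ) := [(2, 0x800000000000), (4, 0x100000), (5, 0x200000), (7, 0x1000000), (8, 0x80000000000b), (9, 0x20000000), (10, 0x40000000), (12, 0x2000000000), (15, 0x8000000000), (16, 0x10000000000), (18, 0x80000000000), (25, 0x200000000000), (26, 0x400000000000), (31, 0x1000000000000), (34, 0x4000000000000), (35, 0x8000000000000)]
def c39 : List (ℕ × ℕ) := [(1, 0x80000000000), (2, 0x80000000000), (4, 0x20002000), (5, 0x40004000), (7, 0x20000), (8, 0x1000040000), (11, 0x1000000), (12, 0x80000000001), (15, 0x100000000), (16, 0x200000000), (19, 0x802000000000), (22, 0x8000000000), (23, 0x10000000000), (25, 0x4020000000000), (26, 0x8040000000000), (31, 0x100000000000), (38, 0x1000000000000)]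
def c45 : List (ℕ × ℕ) := [(2, 0x2000000000000), (4, 0x2000000), (5, 0x4000000), (6, 0x2000000000009), (7, 0x80000000), (9, 0x400000000), (10, 0x800000000), (11, 0x4000000000), (13, 0x20000000000), (14, 0x40000000000), (17, 0x100000000000), (20, 0x200000000000), (21, 0x400000000000), (24, 0x1000000000000), (29, 0x4000000000000), (30, 0x8000000000000)]
def c34 : List (ℕ × ℕ) := [(0, 0x4000000000), (1, 0x4000000000), (2, 0x4000000000), (6, 0x80800), (7, 0x1000), (9, 0x2008000), (10, 0x4010000), (13, 0x400000), (14, 0x800000), (17, 0x4000000003), (18, 0x80000000), (24, 0x2000000000), (29, 0x208000000000), (30, 0x410000000000), (32, 0x20000000000), (33, 0x40000000000), (36, 0x2100000000000), (43, 0x1000000000000)]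
def c26 : List (ℕ × ℕ) := [(2, 0x40000000), (3, 0x40000000), (4, 0x40), (8, 0x400), (12, 0x4000), (15, 0x20000), (19, 0x200000), (22, 0x1000000), (25, 0x4000000c), (26, 0x10000000), (27, 0x20000000), (31, 0x200000000), (34, 0x1000000000), (38, 0x10000000000), (41, 0x80000000000), (45, 0x800000000000), (49, 0x8000000000000)]
def c36 : List (ℕ × ℕ) := [(0, 0x10000000000), (1, 0x10000000000), (3, 0x10000000000), (4, 0x200800), (7, 0x4000), (8, 0x10010000), (9, 0x40020000), (12, 0x800000), (13, 0x1000000), (15, 0x10000000003), (18, 0x200000000), (22, 0x2000000000), (25, 0x404000000000), (27, 0x808000000000), (31, 0x40000000000), (32, 0x80000000000), (34, 0x8100000000000), (41, 0x1000000000000)]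
def c42 : List (ℕ × ℕ) := [(2, 0x400000000000), (3, 0x400000000000), (4, 0x80000), (6, 0x200000), (7, 0x800000), (8, 0x4000000), (9, 0x40000000000f), (10, 0x10000000), (13, 0x2000000000), (15, 0x4000000000), (17, 0x10000000000), (18, 0x40000000000), (27, 0x200000000000), (29, 0x800000000000), (32, 0x1000000000000), (34, 0x2000000000000), (36, 0x8000000000000)]
def c35 : List (ℕ × ℕ) := [(0, 0x8000000000), (1, 0x8000000000), (2, 0x8000000000), (3, 0x8000000000), (5, 0x100800), (7, 0x2000), (8, 0x8008000), (10, 0x20020000), (12, 0x400000), (14, 0x1000000), (16, 0x8000000003), (18, 0x100000000), (23, 0x2000000000), (26, 0x204000000000), (28, 0x810000000000), (31, 0x20000000000), (33, 0x80000000000), (35, 0x4100000000000), (42, 0x1000000000000)]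
def c31 : List (ℕ × ℕ) := [(2, 0x800000000), (3, 0x800000000), (4, 0x100), (6, 0x400), (11, 0x10000), (13, 0x40000), (19, 0x4000000), (20, 0x80000000e), (21, 0x10000000), (22, 0x80000000), (24, 0x200000000), (27, 0x400000000), (29, 0x1000000000), (37, 0x40000000000), (39, 0x100000000000), (45, 0x2000000000000), (47, 0x8000000000000)]
def c40 : List (ℕ × ℕ) := [(0, 0x100000000000), (1, 0x100000000000), (4, 0x400008000), (5, 0x800010000), (6, 0x1000020000), (7, 0x40000), (11, 0x100000000003), (12, 0x80000000), (13, 0x100000000), (14, 0x200000000), (19, 0x2004000000000), (20, 0x4008000000000), (21, 0x8010000000000), (22, 0x20000000000), (23, 0x40000000000), (24, 0x80000000000), (37, 0x1000000000000)]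
def c46 : List (ℕ × ℕ) := [(2, 0x4000000000000), (3, 0x4000000000000), (4, 0x8000000), (5, 0x400000000000d), (6, 0x20000000), (7, 0x100000000), (8, 0x400000000), (10, 0x1000000000), (11, 0x8000000000), (12, 0x20000000000), (14, 0x80000000000), (16, 0x100000000000), (19, 0x200000000000), (21, 0x800000000000), (23, 0x1000000000000), (26, 0x2000000000000), (28, 0x8000000000000)]
def c29 : List (ℕ × ℕ) := [(0, 0x200000000), (3, 0x200000000), (4, 0x480), (11, 0x4000), (12, 0x10000), (13, 0x20000), (15, 0x40000), (19, 0x10800000), (20, 0x41000000), (22, 0x200000002), (25, 0x880000000), (27, 0x1100000000), (37, 0x10000000000), (38, 0x40000000000), (39, 0x80000000000), (41, 0x100000000000), (45, 0x9000000000000)]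
def c41 : List (ℕ × ℕ) := [(3, 0x200000000000), (5, 0x80000), (6, 0x100000), (7, 0x400000), (8, 0x2000000), (9, 0x8000000), (10, 0x200000000007), (14, 0x2000000000), (16, 0x4000000000), (17, 0x8000000000), (18, 0x20000000000), (28, 0x400000000000), (30, 0x800000000000), (33, 0x1000000000000), (35, 0x2000000000000), (36, 0x4000000000000)]
def c44 : List (ℕ × ℕ) := [(0, 0x1000000000000), (4, 0x200000400000), (5, 0x400000800000), (6, 0x800001000000), (7, 0x1000000000002), (8, 0x2000080000000), (9, 0x4000100000000), (10, 0x8000200000000), (11, 0x2000000000), (12, 0x4000000000), (13, 0x8000000000), (14, 0x10000000000), (15, 0x20000000000), (16, 0x40000000000), (17, 0x80000000000), (18, 0x100000000000)]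
def c47 : List (ℕ × ℕ) := [(3, 0x8000000000000), (4, 0x8000000000005), (5, 0x10000000), (6, 0x40000000), (7, 0x200000000), (8, 0x800000000), (9, 0x1000000000), (11, 0x10000000000), (12, 0x40000000000), (13, 0x80000000000), (15, 0x100000000000), (19, 0x400000000000), (20, 0x800000000000), (22, 0x1000000000000), (25, 0x2000000000000), (27, 0x4000000000000)]

open Cfsg.Agent.Helper19.TCS in
noncomputable def ap37 (w : Nat) : Nat := force w (fun n => stepX n 40 0x1000000000000 (stepX n 33 0x100000000000 (stepX n 30 0x4080000000000 (stepX n 28 0x2040000000000 (stepX n 24 0x8000000000 (stepX n 23 0x4000000000 (stepX n 21 0x202000000000 (stepX n 17 0x100000000 (stepX n 16 0x80000000 (stepX n 14 0x20000000001 (stepX n 11 0x400000 (stepX n 10 0x400040000 (stepX n 7 0x8000 (stepX n 6 0x8002000 (stepX n 5 0x2001000 (stepX n 3 0x20000000000 (stepX n 1 0x20000000000 (n))))))))))))))))))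
open Cfsg.Agent.Helper19.TCS in
theorem ap37_eq (n : ℕ) : ap37 n = applyX c37 n := by
  simp only [ap37, force_eq, stepX_eq, applyX, c37, List.foldl_cons, List.foldl_nil]
open Cfsg.Agent.Helper19.TCS in
noncomputable def ap32 (w : Nat) : Nat := force w (fun n => stepX n 46 0x8000000000000 (stepX n 45 0x4000000000000 (stepX n 38 0x100000000000 (stepX n 37 0x80000000000 (stepX n 26 0x800000000 (stepX n 25 0x400000000 (stepX n 23 0x200000000 (stepX n 22 0x100000000 (stepX n 21 0x40000000 (stepX n 20 0x20000000 (stepX n 19 0x100000000a (stepX n 12 0x40000 (stepX n 11 0x20000 (stepX n 5 0x400 (stepX n 4 0x200 (stepX n 2 0x1000000000 (n)))))))))))))))))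
open Cfsg.Agent.Helper19.TCS in
theorem ap32_eq (n : ℕ) : ap32 n = applyX c32 n := by
  simp only [ap32, force_eq, stepX_eq, applyX, c32, List.foldl_cons, List.foldl_nil]
open Cfsg.Agent.Helper19.TCS in
noncomputable def ap38 (w : Nat) : Nat := force w (fun n => stepX n 39 0x1000000000000 (stepX n 32 0x100000000000 (stepX n 29 0x8080000000000 (stepX n 27 0x2020000000000 (stepX n 24 0x10000000000 (stepX n 22 0x4000000000 (stepX n 20 0x402000000000 (stepX n 17 0x200000000 (stepX n 15 0x80000000 (stepX n 13 0x40000000001 (stepX n 11 0x800000 (stepX n 9 0x800040000 (stepX n 7 0x10000 (stepX n 6 0x10004000 (stepX n 4 0x4001000 (stepX n 3 0x40000000000 (stepX n 2 0x40000000000 (stepX n 1 0x40000000000 (n)))))))))))))))))))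
open Cfsg.Agent.Helper19.TCS in
theorem ap38_eq (n : ℕ) : ap38 n = applyX c38 n := by
  simp only [ap38, force_eq, stepX_eq, applyX, c38, List.foldl_cons, List.foldl_nil]
open Cfsg.Agent.Helper19.TCS in
noncomputable def ap43 (w : Nat) : Nat := force w (fun n => stepX n 35 0x8000000000000 (stepX n 34 0x4000000000000 (stepX n 31 0x1000000000000 (stepX n 26 0x400000000000 (stepX n 25 0x200000000000 (stepX n 18 0x80000000000 (stepX n 16 0x10000000000 (stepX n 15 0x8000000000 (stepX n 12 0x2000000000 (stepX n 10 0x40000000 (stepX n 9 0x20000000 (stepX n 8 0x80000000000b (stepX n 7 0x1000000 (stepX n 5 0x200000 (stepX n 4 0x100000 (stepX n 2 0x800000000000 (n)))))))))))))))))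
open Cfsg.Agent.Helper19.TCS in
theorem ap43_eq (n : ℕ) : ap43 n = applyX c43 n := by
  simp only [ap43, force_eq, stepX_eq, applyX, c43, List.foldl_cons, List.foldl_nil]
open Cfsg.Agent.Helper19.TCS in
noncomputable def ap39 (w : Nat) : Nat := force w (fun n => stepX n 38 0x1000000000000 (stepX n 31 0x100000000000 (stepX n 26 0x8040000000000 (stepX n 25 0x4020000000000 (stepX n 23 0x10000000000 (stepX n 22 0x8000000000 (stepX n 19 0x802000000000 (stepX n 16 0x200000000 (stepX n 15 0x100000000 (stepX n 12 0x80000000001 (stepX n 11 0x1000000 (stepX n 8 0x1000040000 (stepX n 7 0x20000 (stepX n 5 0x40004000 (stepX n 4 0x20002000 (stepX n 2 0x80000000000 (stepX n 1 0x80000000000 (n))))))))))))))))))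
open Cfsg.Agent.Helper19.TCS in
theorem ap39_eq (n : ℕ) : ap39 n = applyX c39 n := by
  simp only [ap39, force_eq, stepX_eq, applyX, c39, List.foldl_cons, List.foldl_nil]
open Cfsg.Agent.Helper19.TCS in
noncomputable def ap45 (w : Nat) : Nat := force w (fun n => stepX n 30 0x8000000000000 (stepX n 29 0x4000000000000 (stepX n 24 0x1000000000000 (stepX n 21 0x400000000000 (stepX n 20 0x200000000000 (stepX n 17 0x100000000000 (stepX n 14 0x40000000000 (stepX n 13 0x20000000000 (stepX n 11 0x4000000000 (stepX n 10 0x800000000 (stepX n 9 0x400000000 (stepX n 7 0x80000000 (stepX n 6 0x2000000000009 (stepX n 5 0x4000000 (stepX n 4 0x2000000 (stepX n 2 0x2000000000000 (n)))))))))))))))))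
open Cfsg.Agent.Helper19.TCS in
theorem ap45_eq (n : ℕ) : ap45 n = applyX c45 n := by
  simp only [ap45, force_eq, stepX_eq, applyX, c45, List.foldl_cons, List.foldl_nil]
open Cfsg.Agent.Helper19.TCS in
noncomputable def ap34 (w : Nat) : Nat := force w (fun n => stepX n 43 0x1000000000000 (stepX n 36 0x2100000000000 (stepX n 33 0x40000000000 (stepX n 32 0x20000000000 (stepX n 30 0x410000000000 (stepX n 29 0x208000000000 (stepX n 24 0x2000000000 (stepX n 18 0x80000000 (stepX n 17 0x4000000003 (stepX n 14 0x800000 (stepX n 13 0x400000 (stepX n 10 0x4010000 (stepX n 9 0x2008000 (stepX n 7 0x1000 (stepX n 6 0x80800 (stepX n 2 0x4000000000 (stepX n 1 0x4000000000 (stepX n 0 0x4000000000 (n)))))))))))))))))))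
open Cfsg.Agent.Helper19.TCS in
theorem ap34_eq (n : ℕ) : ap34 n = applyX c34 n := by
  simp only [ap34, force_eq, stepX_eq, applyX, c34, List.foldl_cons, List.foldl_nil]
open Cfsg.Agent.Helper19.TCS in
noncomputable def ap26 (w : Nat) : Nat := force w (fun n => stepX n 49 0x8000000000000 (stepX n 45 0x800000000000 (stepX n 41 0x80000000000 (stepX n 38 0x10000000000 (stepX n 34 0x1000000000 (stepX n 31 0x200000000 (stepX n 27 0x20000000 (stepX n 26 0x10000000 (stepX n 25 0x4000000c (stepX n 22 0x1000000 (stepX n 19 0x200000 (stepX n 15 0x20000 (stepX n 12 0x4000 (stepX n 8 0x400 (stepX n 4 0x40 (stepX n 3 0x40000000 (stepX n 2 0x40000000 (n))))))))))))))))))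
open Cfsg.Agent.Helper19.TCS in
theorem ap26_eq (n : ℕ) : ap26 n = applyX c26 n := by
  simp only [ap26, force_eq, stepX_eq, applyX, c26, List.foldl_cons, List.foldl_nil]
open Cfsg.Agent.Helper19.TCS in
noncomputable def ap36 (w : Nat) : Nat := force w (fun n => stepX n 41 0x1000000000000 (stepX n 34 0x8100000000000 (stepX n 32 0x80000000000 (stepX n 31 0x40000000000 (stepX n 27 0x808000000000 (stepX n 25 0x404000000000 (stepX n 22 0x2000000000 (stepX n 18 0x200000000 (stepX n 15 0x10000000003 (stepX n 13 0x1000000 (stepX n 12 0x800000 (stepX n 9 0x40020000 (stepX n 8 0x10010000 (stepX n 7 0x4000 (stepX n 4 0x200800 (stepX n 3 0x10000000000 (stepX n 1 0x10000000000 (stepX n 0 0x10000000000 (n)))))))))))))))))))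
open Cfsg.Agent.Helper19.TCS in
theorem ap36_eq (n : ℕ) : ap36 n = applyX c36 n := by
  simp only [ap36, force_eq, stepX_eq, applyX, c36, List.foldl_cons, List.foldl_nil]
open Cfsg.Agent.Helper19.TCS in
noncomputable def ap42 (w : Nat) : Nat := force w (fun n => stepX n 36 0x8000000000000 (stepX n 34 0x2000000000000 (stepX n 32 0x1000000000000 (stepX n 29 0x800000000000 (stepX n 27 0x200000000000 (stepX n 18 0x40000000000 (stepX n 17 0x10000000000 (stepX n 15 0x4000000000 (stepX n 13 0x2000000000 (stepX n 10 0x10000000 (stepX n 9 0x40000000000f (stepX n 8 0x4000000 (stepX n 7 0x800000 (stepX n 6 0x200000 (stepX n 4 0x80000 (stepX n 3 0x400000000000 (stepX n 2 0x400000000000 (n))))))))))))))))))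
open Cfsg.Agent.Helper19.TCS in
theorem ap42_eq (n : ℕ) : ap42 n = applyX c42 n := by
  simp only [ap42, force_eq, stepX_eq, applyX, c42, List.foldl_cons, List.foldl_nil]
open Cfsg.Agent.Helper19.TCS in
noncomputable def ap35 (w : Nat) : Nat := force w (fun n => stepX n 42 0x1000000000000 (stepX n 35 0x4100000000000 (stepX n 33 0x80000000000 (stepX n 31 0x20000000000 (stepX n 28 0x810000000000 (stepX n 26 0x204000000000 (stepX n 23 0x2000000000 (stepX n 18 0x100000000 (stepX n 16 0x8000000003 (stepX n 14 0x1000000 (stepX n 12 0x400000 (stepX n 10 0x20020000 (stepX n 8 0x8008000 (stepX n 7 0x2000 (stepX n 5 0x100800 (stepX n 3 0x8000000000 (stepX n 2 0x8000000000 (stepX n 1 0x8000000000 (stepX n 0 0x8000000000 (n))))))))))))))))))))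
open Cfsg.Agent.Helper19.TCS in
theorem ap35_eq (n : ℕ) : ap35 n = applyX c35 n := by
  simp only [ap35, force_eq, stepX_eq, applyX, c35, List.foldl_cons, List.foldl_nil]
open Cfsg.Agent.Helper19.TCS in
noncomputable def ap31 (w : Nat) : Nat := force w (fun n => stepX n 47 0x8000000000000 (stepX n 45 0x2000000000000 (stepX n 39 0x100000000000 (stepX n 37 0x40000000000 (stepX n 29 0x1000000000 (stepX n 27 0x400000000 (stepX n 24 0x200000000 (stepX n 22 0x80000000 (stepX n 21 0x10000000 (stepX n 20 0x80000000e (stepX n 19 0x4000000 (stepX n 13 0x40000 (stepX n 11 0x10000 (stepX n 6 0x400 (stepX n 4 0x100 (stepX n 3 0x800000000 (stepX n 2 0x800000000 (n))))))))))))))))))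
open Cfsg.Agent.Helper19.TCS in
theorem ap31_eq (n : ℕ) : ap31 n = applyX c31 n := by
  simp only [ap31, force_eq, stepX_eq, applyX, c31, List.foldl_cons, List.foldl_nil]
open Cfsg.Agent.Helper19.TCS in
noncomputable def ap40 (w : Nat) : Nat := force w (fun n => stepX n 37 0x1000000000000 (stepX n 24 0x80000000000 (stepX n 23 0x40000000000 (stepX n 22 0x20000000000 (stepX n 21 0x8010000000000 (stepX n 20 0x4008000000000 (stepX n 19 0x2004000000000 (stepX n 14 0x200000000 (stepX n 13 0x100000000 (stepX n 12 0x80000000 (stepX n 11 0x100000000003 (stepX n 7 0x40000 (stepX n 6 0x1000020000 (stepX n 5 0x800010000 (stepX n 4 0x400008000 (stepX n 1 0x100000000000 (stepX n 0 0x100000000000 (n))))))))))))))))))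
open Cfsg.Agent.Helper19.TCS in
theorem ap40_eq (n : ℕ) : ap40 n = applyX c40 n := by
  simp only [ap40, force_eq, stepX_eq, applyX, c40, List.foldl_cons, List.foldl_nil]
open Cfsg.Agent.Helper19.TCS in
noncomputable def ap46 (w : Nat) : Nat := force w (fun n => stepX n 28 0x8000000000000 (stepX n 26 0x2000000000000 (stepX n 23 0x1000000000000 (stepX n 21 0x800000000000 (stepX n 19 0x200000000000 (stepX n 16 0x100000000000 (stepX n 14 0x80000000000 (stepX n 12 0x20000000000 (stepX n 11 0x8000000000 (stepX n 10 0x1000000000 (stepX n 8 0x400000000 (stepX n 7 0x100000000 (stepX n 6 0x20000000 (stepX n 5 0x400000000000d (stepX n 4 0x8000000 (stepX n 3 0x4000000000000 (stepX n 2 0x4000000000000 (n))))))))))))))))))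
open Cfsg.Agent.Helper19.TCS in
theorem ap46_eq (n : ℕ) : ap46 n = applyX c46 n := by
  simp only [ap46, force_eq, stepX_eq, applyX, c46, List.foldl_cons, List.foldl_nil]
open Cfsg.Agent.Helper19.TCS in
noncomputable def ap29 (w : Nat) : Nat := force w (fun n => stepX n 45 0x9000000000000 (stepX n 41 0x100000000000 (stepX n 39 0x80000000000 (stepX n 38 0x40000000000 (stepX n 37 0x10000000000 (stepX n 27 0x1100000000 (stepX n 25 0x880000000 (stepX n 22 0x200000002 (stepX n 20 0x41000000 (stepX n 19 0x10800000 (stepX n 15 0x40000 (stepX n 13 0x20000 (stepX n 12 0x10000 (stepX n 11 0x4000 (stepX n 4 0x480 (stepX n 3 0x200000000 (stepX n 0 0x200000000 (n))))))))))))))))))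
open Cfsg.Agent.Helper19.TCS in
theorem ap29_eq (n : ℕ) : ap29 n = applyX c29 n := by
  simp only [ap29, force_eq, stepX_eq, applyX, c29, List.foldl_cons, List.foldl_nil]
open Cfsg.Agent.Helper19.TCS in
noncomputable def ap41 (w : Nat) : Nat := force w (fun n => stepX n 36 0x4000000000000 (stepX n 35 0x2000000000000 (stepX n 33 0x1000000000000 (stepX n 30 0x800000000000 (stepX n 28 0x400000000000 (stepX n 18 0x20000000000 (stepX n 17 0x8000000000 (stepX n 16 0x4000000000 (stepX n 14 0x2000000000 (stepX n 10 0x200000000007 (stepX n 9 0x8000000 (stepX n 8 0x2000000 (stepX n 7 0x400000 (stepX n 6 0x100000 (stepX n 5 0x80000 (stepX n 3 0x200000000000 (n)))))))))))))))))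
open Cfsg.Agent.Helper19.TCS in
theorem ap41_eq (n : ℕ) : ap41 n = applyX c41 n := by
  simp only [ap41, force_eq, stepX_eq, applyX, c41, List.foldl_cons, List.foldl_nil]
open Cfsg.Agent.Helper19.TCS in
noncomputable def ap44 (w : Nat) : Nat := force w (fun n => stepX n 18 0x100000000000 (stepX n 17 0x80000000000 (stepX n 16 0x40000000000 (stepX n 15 0x20000000000 (stepX n 14 0x10000000000 (stepX n 13 0x8000000000 (stepX n 12 0x4000000000 (stepX n 11 0x2000000000 (stepX n 10 0x8000200000000 (stepX n 9 0x4000100000000 (stepX n 8 0x2000080000000 (stepX n 7 0x1000000000002 (stepX n 6 0x800001000000 (stepX n 5 0x400000800000 (stepX n 4 0x200000400000 (stepX n 0 0x1000000000000 (n)))))))))))))))))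
open Cfsg.Agent.Helper19.TCS in
theorem ap44_eq (n : ℕ) : ap44 n = applyX c44 n := by
  simp only [ap44, force_eq, stepX_eq, applyX, c44, List.foldl_cons, List.foldl_nil]
open Cfsg.Agent.Helper19.TCS in
noncomputable def ap47 (w : Nat) : Nat := force w (fun n => stepX n 27 0x4000000000000 (stepX n 25 0x2000000000000 (stepX n 22 0x1000000000000 (stepX n 20 0x800000000000 (stepX n 19 0x400000000000 (stepX n 15 0x100000000000 (stepX n 13 0x80000000000 (stepX n 12 0x40000000000 (stepX n 11 0x10000000000 (stepX n 9 0x1000000000 (stepX n 8 0x800000000 (stepX n 7 0x200000000 (stepX n 6 0x40000000 (stepX n 5 0x10000000 (stepX n 4 0x8000000000005 (stepX n 3 0x8000000000000 (n)))))))))))))))))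
open Cfsg.Agent.Helper19.TCS in
theorem ap47_eq (n : ℕ) : ap47 n = applyX c47 n := by
  simp only [ap47, force_eq, stepX_eq, applyX, c47, List.foldl_cons, List.foldl_nil]

/-- the pairs of the root `r` (thirty roots). -/
def cols2 : ℕ → List (ℕ × ℕ)
  | 33 => c33
  | 24 => c24
  | 14 => c14
  | 23 => c23
  | 27 => c27
  | 25 => c25
  | 28 => c28
  | 30 => c30
  | 20 => c20
  | 22 => c22
  | 19 => c19
  | 17 => c17
  | 37 => c37
  | 32 => c32
  | 38 => c38
  | 43 => c43
  | 39 => c39
  | 45 => c45
  | 34 => c34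
  | 26 => c26
  | 36 => c36
  | 42 => c42
  | 35 => c35
  | 31 => c31
  | 40 => c40
  | 46 => c46
  | 29 => c29
  | 41 => c41
  | 44 => c44
  | 47 => c47
  | _ => []

/-- the eighteen new roots. -/
def roots18 : List ℕ := [37, 32, 38, 43, 39, 45, 34, 26, 36, 42, 35, 31, 40, 46, 29, 41, 44, 47]

/-- all thirty roots. -/
def roots30 : List ℕ := [33, 24, 14, 23, 27, 25, 28, 30, 20, 22, 19, 17, 37, 32, 38, 43, 39, 45, 34, 26, 36, 42, 35, 31, 40, 46, 29, 41, 44, 47]

end Cfsg.Agent.Helper17.Tits
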