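import Cfsg.Agent.Helper17.Tits.RootData2
import Cfsg.Agent.Helper17.Tits.Roots

/-!
# Thirty root elements of `F₄(2)` acting on bit masks

The bridge of `Roots` for the twelve roots of the generators together with the eighteen positive
roots met by the twisted root subgroups of `²F₄(2)`.
-/

set_option autoImplicit false
set_option linter.all false
set_option maxRecDepth 100000

namespace Cfsg.Agent.Helper17.Tits

open Cfsg.Lie Cfsg.Agent.Helper6 Cfsg.Agent.Helper11.TwF4 Matrix

/-- comparison of one entry. -/
def entOK2 (r : ℕ) (i j : Idx) : Bool := decide (chevF4.x (ZMod 2) r 1 i j = entry (cols2 r) i j)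

/-- the description of the root element `x_r(1)` is right. -/
def RootOK (r : ℕ) : Prop := (∀ p ∈ cols2 r, p.1 < 52) ∧ ∀ i j : Idx, entOK2 r i j = true

instance (r : ℕ) : Decidable (RootOK r) := by unfold RootOK; infer_instance

theorem rootOK_37 : RootOK 37 := by decide +kernel
theorem rootOK_32 : RootOK 32 := by decide +kernel
theorem rootOK_38 : RootOK 38 := by decide +kernel
theorem rootOK_43 : RootOK 43 := by decide +kernel
theorem rootOK_39 : RootOK 39 := by decide +kernel
theorem rootOK_45 : RootOK 45 := by decide +kernel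
theorem rootOK_34 : RootOK 34 := by decide +kernel
theorem rootOK_26 : RootOK 26 := by decide +kernel
theorem rootOK_36 : RootOK 36 := by decide +kernel
theorem rootOK_42 : RootOK 42 := by decide +kernel
theorem rootOK_35 : RootOK 35 := by decide +kernel
theorem rootOK_31 : RootOK 31 := by decide +kernel
theorem rootOK_40 : RootOK 40 := by decide +kernel
theorem rootOK_46 : RootOK 46 := by decide +kernel
theorem rootOK_29 : RootOK 29 := by decide +kernel
theorem rootOK_41 : RootOK 41 := by decide +kernel
theorem rootOK_44 : RootOK 44 := by decide +kernel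
theorem rootOK_47 : RootOK 47 := by decide +kernel

theorem cols_ok18 : ∀ r ∈ roots18, (∀ p ∈ cols2 r, p.1 < 52) ∧
    ∀ i j : Idx, entOK2 r i j = true := by
  intro r hr
  simp only [roots18, List.mem_cons, List.not_mem_nil, or_false] at hr
  rcases hr with rfl | rfl | rfl | rfl | rfl | rfl | rfl | rfl | rfl | rfl | rfl | rfl | rfl | rfl |
    rfl | rfl | rfl | rfl
  · exact rootOK_37
  · exact rootOK_32
  · exact rootOK_38
  · exact rootOK_43
  · exact rootOK_39
  · exact rootOK_45
  · exact rootOK_34
  · exact rootOK_26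
  · exact rootOK_36
  · exact rootOK_42
  · exact rootOK_35
  · exact rootOK_31
  · exact rootOK_40
  · exact rootOK_46
  · exact rootOK_29
  · exact rootOK_41
  · exact rootOK_44
  · exact rootOK_47

theorem cols2_eq : ∀ r ∈ roots12, cols2 r = cols r := by
  intro r hr
  simp only [roots12, List.mem_cons, List.not_mem_nil, or_false] at hr
  rcases hr with rfl | rfl | rfl | rfl | rfl | rfl | rfl | rfl | rfl | rfl | rfl | rfl <;> rfl

theorem mem_roots30 {r : ℕ} (hr : r ∈ roots30) : r ∈ roots12 ∨ r ∈ roots18 := by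
  have e : roots30 = roots12 ++ roots18 := rfl
  rw [e, List.mem_append] at hr
  exact hr

theorem x_mulVec2 {r : ℕ} (hr : r ∈ roots30) (n : ℕ) :
    chevF4.x (ZMod 2) r 1 *ᵥ vecOf n = vecOf (applyX (cols2 r) n) := by
  rcases mem_roots30 hr with h | h
  · rw [cols2_eq r h]; exact x_mulVec h n
  · exact mulVec_vecOf _ _ (cols_ok18 r h).1
      (fun i j => of_decide_eq_true ((cols_ok18 r h).2 i j)) n

/-- the action of a product of root elements on bit masks (thirty roots). -/
def wapp2 (rs : List ℕ) (n : ℕ) : ℕ := rs.foldr (fun r acc => applyX (cols2 r) acc) n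

theorem wapp2_nil (n : ℕ) : wapp2 [] n = n := rfl

theorem wapp2_cons (r : ℕ) (rs : List ℕ) (n : ℕ) :
    wapp2 (r :: rs) n = applyX (cols2 r) (wapp2 rs n) := rfl

theorem wapp2_append (a b : List ℕ) (n : ℕ) : wapp2 (a ++ b) n = wapp2 a (wapp2 b n) := by
  simp [wapp2, List.foldr_append]

theorem wprod_mulVec2 (rs : List ℕ) (hrs : ∀ r ∈ rs, r ∈ roots30) (n : ℕ) :
    ((wprod rs : GL Idx (ZMod 2)) : Matrix Idx Idx (ZMod 2)) *ᵥ vecOf n = vecOf (wapp2 rs n) := by
  induction rs with
  | nil => simp [wprod, wapp2]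
  | cons r rs ih =>
    have hr : r ∈ roots30 := hrs r List.mem_cons_self
    have hrs' : ∀ s ∈ rs, s ∈ roots30 := fun s hs => hrs s (List.mem_cons_of_mem _ hs)
    rw [wprod_cons, Units.val_mul, ← Matrix.mulVec_mulVec, ih hrs', xU_val, x_mulVec2 hr]
    rfl

/-- equality of two products of root elements, by the images of the basis masks. -/
theorem wprod_eq2 (a b : List ℕ) (ha : ∀ r ∈ a, r ∈ roots30) (hb : ∀ r ∈ b, r ∈ roots30)
    (h : ∀ k, k < 52 → wapp2 a (2 ^ k) = wapp2 b (2 ^ k)) : wprod a = wprod b := by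
  apply Units.ext
  apply matrix_ext_of_mulVec
  intro j
  rw [wprod_mulVec2 a ha, wprod_mulVec2 b hb, h (code j) (code_lt j)]

end Cfsg.Agent.Helper17.Tits
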