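import Cfsg.Agent.Helper17.Tits.U1Chk
import Cfsg.Agent.Helper17.Tits.Roots2
import Cfsg.Agent.Helper17.Tits.Main

/-!
# The Sylow `2`-subgroup `U ∩ ²F₄(2)` and its involutions

The `4096` products `h₁^e₁ ⋯ h₁₂^e₁₂` of twelve elements of `U ∩ ²F₄(2)` are pairwise distinct (they
move the vector `17` to `4096` different places), so they are all of `U ∩ ²F₄(2)` (order `2 ^ 12`,
helper11).  None of those whose square is `1` changes the colour of the vector `1`; hence the
involutions of `U ∩ ²F₄(2)` lie in the kernel of `chi`.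
-/

set_option autoImplicit false
set_option linter.all false
set_option maxRecDepth 100000

namespace Cfsg.Agent.Helper17.Tits

open Cfsg.Agent.Helper19.TCS Cfsg.Lie Cfsg.Agent.Helper6 Cfsg.Agent.Helper11.TwF4 Matrix

/-! ### reading the certificates -/

theorem okRange_succ (f : ℕ → Bool) (lo n : ℕ) :
    okRange f lo (n + 1) = bIf (f (Nat.add lo n)) (okRange f lo n) false := rfl

theorem okRange_spec (f : ℕ → Bool) (lo : ℕ) : ∀ n, okRange f lo n = true →
    ∀ i, lo ≤ i → i < lo + n → f i = true := by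
  intro n
  induction n with
  | zero => intro _ i h1 h2; omega
  | succ n ih =>
    intro h i h1 h2
    rw [okRange_succ, bIf_eq_true'] at h
    obtain ⟨ha, hb⟩ := h
    by_cases hin : i = lo + n
    · subst hin; exact ha
    · exact ih hb i h1 (by omega)

theorem okSC_all : ∀ p, p < 8 → okRange okS (p * 512) 512 = true := by
  intro p hp
  interval_cases p
  · exact okSC0
  · exact okSC1
  · exact okSC2
  · exact okSC3
  · exact okSC4
  · exact okSC5
  · exact okSC6
  · exact okSC7

theorem okEC_all : ∀ p, p < 8 → okRange okE (p * 512) 512 = true := by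
  intro p hp
  interval_cases p
  · exact okEC0
  · exact okEC1
  · exact okEC2
  · exact okEC3
  · exact okEC4
  · exact okEC5
  · exact okEC6
  · exact okEC7

theorem okS_all : ∀ j, j < 4096 → okS j = true := by
  intro i hi
  have hp : i / 512 < 8 := by omega
  have h1 : i / 512 * 512 ≤ i := Nat.div_mul_le_self i 512
  have h2 : i < i / 512 * 512 + 512 := by omega
  exact okRange_spec okS (i / 512 * 512) 512 (okSC_all (i / 512) hp) i h1 h2

theorem okE_all : ∀ k, k < 4096 → okE k = true := by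
  intro i hi
  have hp : i / 512 < 8 := by omega
  have h1 : i / 512 * 512 ≤ i := Nat.div_mul_le_self i 512
  have h2 : i < i / 512 * 512 + 512 := by omega
  exact okRange_spec okE (i / 512 * 512) 512 (okEC_all (i / 512) hp) i h1 h2

theorem okS_spec {j : ℕ} (hj : j < 4096) :
    src j < 4096 ∧ appK (src j) 17 = srt j ∧ (j + 1 < 4096 → srt j < srt (j + 1)) := by
  have h := okS_all j hj
  unfold okS at h
  rw [force_eq, force_eq, bIf_eq_true', bIf_eq_true'] at h
  obtain ⟨h1, h2, h3⟩ := h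
  refine ⟨by simpa using h1, Nat.eq_of_beq_eq_true h2, ?_⟩
  intro hlt
  have hb : Nat.blt (Nat.succ j) 4096 = true := by simpa using hlt
  rw [hb, bIf_true] at h3
  simpa using h3

theorem okE_spec {k : ℕ} (hk : k < 4096) :
    cidx k < 24960 ∧ appK k 1 = vec (cidx k) ∧
      (appK k (appK k 17) = 17 → colB (cidx k) = colB 0) := by
  have h := okE_all k hk
  unfold okE at h
  rw [force_eq, bIf_eq_true', bIf_eq_true'] at h
  obtain ⟨h1, h2, h3⟩ := h
  refine ⟨by simpa using h1, Nat.eq_of_beq_eq_true h2, ?_⟩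
  intro he
  have hb : Nat.beq (appK k (appK k 17)) 17 = true := by
    rw [he]; rfl
  rw [hb, bIf_true] at h3
  exact beqB_eq h3

theorem srt_strictMono : ∀ j, j < 4096 → ∀ i, i < j → srt i < srt j := by
  intro j
  induction j with
  | zero => intro _ i hi; omega
  | succ j ih =>
    intro hj i hi
    have h1 : srt j < srt (j + 1) := (okS_spec (by omega : j < 4096)).2.2 hj
    by_cases hij : i = j
    · subst hij; exact h1
    · exact lt_trans (ih (by omega) i (by omega)) h1

theorem srt_inj {i j : ℕ} (hi : i < 4096) (hj : j < 4096) (h : srt i = srt j) : i = j := by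
  rcases lt_trichotomy i j with h1 | h1 | h1
  · exact absurd h (ne_of_lt (srt_strictMono j hj i h1))
  · exact h1
  · exact absurd h.symm (ne_of_lt (srt_strictMono i hi j h1))

theorem srt_lt (i : ℕ) : srt i < 2 ^ 52 := by
  unfold srt
  rw [force_eq]
  have : Nat.land (Nat.shiftRight (srtSel (Nat.div i 256)) (Nat.mul 52 (Nat.mod i 256)))
      4503599627370495 ≤ 4503599627370495 := Nat.and_le_right
  omega

/-! ### the elements -/

/-- the list `L` if the bit `i` of `k` is set. -/
def bl (k i : ℕ) (L : List ℕ) : List ℕ := if k.testBit i then L else []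

/-- the roots of the element number `k`. -/
def elemList (k : ℕ) : List ℕ :=
  bl k 11 [27, 25, 28] ++ (bl k 10 [28, 30] ++ (bl k 9 [29, 41, 44] ++ (bl k 8 [35, 31, 40] ++
  (bl k 7 [34, 26, 36] ++ (bl k 6 [40, 46] ++ (bl k 5 [36, 42] ++ (bl k 4 [44, 47] ++
  (bl k 3 [37, 32] ++ (bl k 2 [39, 45] ++ (bl k 1 [38, 43] ++ bl k 0 [33, 24]))))))))))

theorem selA_eq (k i : ℕ) (f : ℕ → ℕ) (w : ℕ) :
    selA k i f w = if k.testBit i then f w else w := by
  unfold selA
  rw [force_eq]
  have h : Nat.land (Nat.shiftRight k i) 1 = (k >>> i) % 2 := Nat.and_one_is_mod _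
  rw [h]
  have ht : k.testBit i = decide ((k >>> i) % 2 = 1) := by
    rw [Nat.testBit_eq_decide_div_mod_eq, Nat.shiftRight_eq_div_pow]
  rw [ht]
  rcases Nat.mod_two_eq_zero_or_one (k >>> i) with h0 | h1
  · rw [h0]; rfl
  · rw [h1]; rfl

theorem wapp2_bl (k i : ℕ) (L : List ℕ) (w : ℕ) :
    wapp2 (bl k i L) w = if k.testBit i then wapp2 L w else w := by
  unfold bl
  split <;> rfl

theorem ah0_eq (w : ℕ) : ah0 w = wapp2 [27, 25, 28] w := by
  simp only [ah0, ap27_eq, ap25_eq, ap28_eq]; rfl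
theorem ah1_eq (w : ℕ) : ah1 w = wapp2 [28, 30] w := by
  simp only [ah1, ap28_eq, ap30_eq]; rfl
theorem ah2_eq (w : ℕ) : ah2 w = wapp2 [29, 41, 44] w := by
  simp only [ah2, ap29_eq, ap41_eq, ap44_eq]; rfl
theorem ah3_eq (w : ℕ) : ah3 w = wapp2 [35, 31, 40] w := by
  simp only [ah3, ap35_eq, ap31_eq, ap40_eq]; rfl
theorem ah4_eq (w : ℕ) : ah4 w = wapp2 [34, 26, 36] w := by
  simp only [ah4, ap34_eq, ap26_eq, ap36_eq]; rfl
theorem ah5_eq (w : ℕ) : ah5 w = wapp2 [40, 46] w := by
  simp only [ah5, ap40_eq, ap46_eq]; rfl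
theorem ah6_eq (w : ℕ) : ah6 w = wapp2 [36, 42] w := by
  simp only [ah6, ap36_eq, ap42_eq]; rfl
theorem ah7_eq (w : ℕ) : ah7 w = wapp2 [44, 47] w := by
  simp only [ah7, ap44_eq, ap47_eq]; rfl
theorem ah8_eq (w : ℕ) : ah8 w = wapp2 [37, 32] w := by
  simp only [ah8, ap37_eq, ap32_eq]; rfl
theorem ah9_eq (w : ℕ) : ah9 w = wapp2 [39, 45] w := by
  simp only [ah9, ap39_eq, ap45_eq]; rfl
theorem ah10_eq (w : ℕ) : ah10 w = wapp2 [38, 43] w := by
  simp only [ah10, ap38_eq, ap43_eq]; rfl
theorem ah11_eq (w : ℕ) : ah11 w = wapp2 [33, 24] w := by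
  simp only [ah11, ap33_eq, ap24_eq]; rfl

theorem appK_eq (k w : ℕ) : appK k w = wapp2 (elemList k) w := by
  unfold appK elemList
  simp only [selA_eq, wapp2_append, wapp2_bl, ah0_eq, ah1_eq, ah2_eq, ah3_eq, ah4_eq, ah5_eq,
    ah6_eq, ah7_eq, ah8_eq, ah9_eq, ah10_eq, ah11_eq]

theorem bl_subset (k i : ℕ) (L : List ℕ) : ∀ r ∈ bl k i L, r ∈ L := by
  intro r hr
  unfold bl at hr
  split at hr
  · exact hr
  · exact absurd hr (List.not_mem_nil)

theorem elemList_roots (k : ℕ) : ∀ r ∈ elemList k, r ∈ roots30 := by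
  intro r hr
  unfold elemList at hr
  simp only [List.mem_append] at hr
  have key : ∀ (i : ℕ) (L : List ℕ), (∀ s ∈ L, s ∈ roots30) → r ∈ bl k i L → r ∈ roots30 :=
    fun i L hL h => hL r (bl_subset k i L r h)
  rcases hr with h | h | h | h | h | h | h | h | h | h | h | h
  all_goals exact key _ _ (by decide) h

/-- the element number `k`. -/
def gK (k : ℕ) : GL Idx (ZMod 2) := wprod (elemList k)

theorem gK_mulVec (k n : ℕ) :
    ((gK k : GL Idx (ZMod 2)) : Matrix Idx Idx (ZMod 2)) *ᵥ vecOf n = vecOf (appK k n) := by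
  rw [gK, wprod_mulVec2 _ (elemList_roots k), appK_eq]

/-! ### bounds -/

theorem masks_lt : ∀ r ∈ roots30, ∀ p ∈ cols2 r, p.2 < 2 ^ 52 := by decide

theorem applyX_lt (ps : List (ℕ × ℕ)) (hps : ∀ p ∈ ps, p.2 < 2 ^ 52) {n : ℕ} (hn : n < 2 ^ 52) :
    applyX ps n < 2 ^ 52 := by
  unfold applyX
  have key : ∀ (qs : List (ℕ × ℕ)), (∀ p ∈ qs, p.2 < 2 ^ 52) → ∀ acc : ℕ, acc < 2 ^ 52 →
      qs.foldl (fun acc p => cond (n.testBit p.1) (acc ^^^ p.2) acc) acc < 2 ^ 52 := by
    intro qs
    induction qs with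
    | nil => intro _ acc h; exact h
    | cons q qs ih =>
      intro hq acc hacc
      rw [List.foldl_cons]
      apply ih (fun p hp => hq p (List.mem_cons_of_mem _ hp))
      cases n.testBit q.1
      · exact hacc
      · exact Nat.xor_lt_two_pow hacc (hq q List.mem_cons_self)
  exact key ps hps n hn

theorem wapp2_lt (rs : List ℕ) (hrs : ∀ r ∈ rs, r ∈ roots30) {n : ℕ} (hn : n < 2 ^ 52) :
    wapp2 rs n < 2 ^ 52 := by
  induction rs with
  | nil => exact hn
  | cons r rs ih =>
    rw [wapp2_cons]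
    exact applyX_lt _ (masks_lt r (hrs r List.mem_cons_self))
      (ih (fun s hs => hrs s (List.mem_cons_of_mem _ hs)))

theorem appK_lt (k : ℕ) {n : ℕ} (hn : n < 2 ^ 52) : appK k n < 2 ^ 52 := by
  rw [appK_eq]; exact wapp2_lt _ (elemList_roots k) hn

end Cfsg.Agent.Helper17.Tits
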