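import Cfsg.Agent.Helper17.Tits.U1Data

/-! Kernel evaluation of the checkers of `U1Data`. -/

set_option autoImplicit false
set_option linter.all false
set_option maxRecDepth 1000000
set_option maxHeartbeats 0

namespace Cfsg.Agent.Helper17.Tits

open Cfsg.Agent.Helper19.TCS

theorem okSC0 : okRange okS (0 * 512) 512 = true := by decide +kernel
theorem okSC1 : okRange okS (1 * 512) 512 = true := by decide +kernel
theorem okSC2 : okRange okS (2 * 512) 512 = true := by decide +kernel
theorem okSC3 : okRange okS (3 * 512) 512 = true := by decide +kernel
theorem okSC4 : okRange okS (4 * 512) 512 = true := by decide +kernel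
theorem okSC5 : okRange okS (5 * 512) 512 = true := by decide +kernel
theorem okSC6 : okRange okS (6 * 512) 512 = true := by decide +kernel
theorem okSC7 : okRange okS (7 * 512) 512 = true := by decide +kernel
theorem okEC0 : okRange okE (0 * 512) 512 = true := by decide +kernel
theorem okEC1 : okRange okE (1 * 512) 512 = true := by decide +kernel
theorem okEC2 : okRange okE (2 * 512) 512 = true := by decide +kernel
theorem okEC3 : okRange okE (3 * 512) 512 = true := by decide +kernel
theorem okEC4 : okRange okE (4 * 512) 512 = true := by decide +kernel
theorem okEC5 : okRange okE (5 * 512) 512 = true := by decide +kernel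
theorem okEC6 : okRange okE (6 * 512) 512 = true := by decide +kernel
theorem okEC7 : okRange okE (7 * 512) 512 = true := by decide +kernel
theorem vec_zero : vec 0 = 1 := by decide +kernel

end Cfsg.Agent.Helper17.Tits
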