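import Cfsg.Agent.Helper17.Tits.U1

/-!
# The elements of `U ∩ ²F₄(2)`

The twelve elements `h₁, …, h₁₂` lie in `U ∩ ²F₄(2)` (they are conjugates of the generators under the
twisted Weyl group), hence so do the `4096` products `gK k`; these are all of `U ∩ ²F₄(2)`, and those
whose square is `1` preserve the colours.
-/

set_option autoImplicit false
set_option linter.all false
set_option maxRecDepth 100000

namespace Cfsg.Agent.Helper17.Tits

open Cfsg.Agent.Helper19.TCS Cfsg.Lie Cfsg.Agent.Helper6 Cfsg.Agent.Helper11.TwF4 Matrix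
open Cfsg.Agent.Helper11.FixBN Cfsg.Agent.Helper2.BN

/-- the subgroup `U ∩ ²F₄(2)`. -/
abbrev U1 : Subgroup (GL Idx (ZMod 2)) := chevF4.posUnipotent (ZMod 2) ⊓ GT

theorem wprod_mem_U (rs : List ℕ) (h : ∀ r ∈ rs, chevF4.IsPosRoot r) :
    wprod rs ∈ chevF4.posUnipotent (ZMod 2) := by
  induction rs with
  | nil => rw [wprod_nil]; exact Subgroup.one_mem _
  | cons r rs ih =>
    rw [wprod_cons]
    refine Subgroup.mul_mem _ ?_ (ih (fun s hs => h s (List.mem_cons_of_mem _ hs)))
    exact Subgroup.subset_closure ⟨r, 1, h r List.mem_cons_self, xU_val hBF4 r 1⟩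

/-- words of the two reflections of the twisted Weyl group. -/
def n0L : List ℕ := [33, 24, 14, 23, 33, 24]
def n1L : List ℕ := [28, 30, 20, 22, 17, 27, 25, 28]

theorem w27_mem : wprod [28, 30] ∈ GT := by rw [← b2_pos_01]; exact b2Gen_pos_mem 1 0 1

theorem V11_mem : wprod [20, 22, 17] ∈ GT := by rw [← b2_neg_11]; exact b2Gen_neg_mem 1 1 1

theorem n0_mem : wprod n0L ∈ GT := by
  have e : wprod n0L = gu * gU * gu := by
    simp only [gu, gU, ← wprod_append]; rfl
  rw [e]; exact Subgroup.mul_mem _ (Subgroup.mul_mem _ gu_mem gU_mem) gu_mem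

theorem n1_mem : wprod n1L ∈ GT := by
  have e : wprod n1L = wprod [28, 30] * wprod [20, 22, 17] * gv := by
    simp only [gv, ← wprod_append]; rfl
  rw [e]; exact Subgroup.mul_mem _ (Subgroup.mul_mem _ w27_mem V11_mem) gv_mem

theorem wprod_append_mem {a b : List ℕ} (ha : wprod a ∈ GT) (hb : wprod b ∈ GT) :
    wprod (a ++ b) ∈ GT := by
  rw [wprod_append]; exact Subgroup.mul_mem _ ha hb

theorem mem_of_conj {N L L' : List ℕ} (hN : wprod N ∈ GT) (hL : wprod L ∈ GT)
    (h : wprod (N ++ L) = wprod (L' ++ N)) : wprod L' ∈ GT := by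
  rw [wprod_append, wprod_append] at h
  have e : wprod L' = wprod N * wprod L * (wprod N)⁻¹ := by rw [h]; group
  rw [e]; exact Subgroup.mul_mem _ (Subgroup.mul_mem _ hN hL) (Subgroup.inv_mem _ hN)

theorem gu_mem' : wprod [33, 24] ∈ GT := gu_mem
theorem gv_mem' : wprod [27, 25, 28] ∈ GT := gv_mem

theorem p37_mem : wprod [37, 32] ∈ GT :=
  mem_of_conj (N := n1L) (L := [33, 24]) n1_mem gu_mem'
    (wprod_eq2 _ _ (by decide) (by decide) (by decide +kernel))

theorem p38_mem : wprod [38, 43] ∈ GT :=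
  mem_of_conj (N := n0L ++ n1L) (L := [33, 24]) (wprod_append_mem n0_mem n1_mem) gu_mem'
    (wprod_eq2 _ _ (by decide) (by decide) (by decide +kernel))

theorem p39_mem : wprod [39, 45] ∈ GT :=
  mem_of_conj (N := n1L ++ (n0L ++ n1L)) (L := [33, 24])
    (wprod_append_mem n1_mem (wprod_append_mem n0_mem n1_mem)) gu_mem'
    (wprod_eq2 _ _ (by decide) (by decide) (by decide +kernel))

theorem v34_mem : wprod [34, 26, 36] ∈ GT :=
  mem_of_conj (N := n0L) (L := [27, 25, 28]) n0_mem gv_mem'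
    (wprod_eq2 _ _ (by decide) (by decide) (by decide +kernel))

theorem v35_mem : wprod [35, 31, 40] ∈ GT :=
  mem_of_conj (N := n1L ++ n0L) (L := [27, 25, 28]) (wprod_append_mem n1_mem n0_mem) gv_mem'
    (wprod_eq2 _ _ (by decide) (by decide) (by decide +kernel))

theorem v29_mem : wprod [29, 41, 44] ∈ GT :=
  mem_of_conj (N := n0L ++ (n1L ++ n0L)) (L := [27, 25, 28])
    (wprod_append_mem n0_mem (wprod_append_mem n1_mem n0_mem)) gv_mem'
    (wprod_eq2 _ _ (by decide) (by decide) (by decide +kernel))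

theorem w34_mem : wprod [36, 42] ∈ GT :=
  mem_of_conj (N := n0L) (L := [28, 30]) n0_mem w27_mem
    (wprod_eq2 _ _ (by decide) (by decide) (by decide +kernel))

theorem w35_mem : wprod [40, 46] ∈ GT :=
  mem_of_conj (N := n1L ++ n0L) (L := [28, 30]) (wprod_append_mem n1_mem n0_mem) w27_mem
    (wprod_eq2 _ _ (by decide) (by decide) (by decide +kernel))

theorem w29_mem : wprod [44, 47] ∈ GT :=
  mem_of_conj (N := n0L ++ (n1L ++ n0L)) (L := [28, 30])
    (wprod_append_mem n0_mem (wprod_append_mem n1_mem n0_mem)) w27_mem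
    (wprod_eq2 _ _ (by decide) (by decide) (by decide +kernel))

theorem wprod_bl_mem (k i : ℕ) {L : List ℕ} (hp : ∀ r ∈ L, chevF4.IsPosRoot r)
    (h : wprod L ∈ GT) : wprod (bl k i L) ∈ U1 := by
  unfold bl
  split
  · exact ⟨wprod_mem_U L hp, h⟩
  · rw [wprod_nil]; exact Subgroup.one_mem _

theorem gK_mem (k : ℕ) : gK k ∈ U1 := by
  unfold gK elemList
  simp only [wprod_append]
  exact Subgroup.mul_mem _ (wprod_bl_mem k 11 (by decide) gv_mem')
    (Subgroup.mul_mem _ (wprod_bl_mem k 10 (by decide) w27_mem)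
    (Subgroup.mul_mem _ (wprod_bl_mem k 9 (by decide) v29_mem)
    (Subgroup.mul_mem _ (wprod_bl_mem k 8 (by decide) v35_mem)
    (Subgroup.mul_mem _ (wprod_bl_mem k 7 (by decide) v34_mem)
    (Subgroup.mul_mem _ (wprod_bl_mem k 6 (by decide) w35_mem)
    (Subgroup.mul_mem _ (wprod_bl_mem k 5 (by decide) w34_mem)
    (Subgroup.mul_mem _ (wprod_bl_mem k 4 (by decide) w29_mem)
    (Subgroup.mul_mem _ (wprod_bl_mem k 3 (by decide) p37_mem)
    (Subgroup.mul_mem _ (wprod_bl_mem k 2 (by decide) p39_mem)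
    (Subgroup.mul_mem _ (wprod_bl_mem k 1 (by decide) p38_mem)
      (wprod_bl_mem k 0 (by decide) gu_mem')))))))))))

/-- the order of `U ∩ ²F₄(2)` (helper11). -/
theorem card_U1 : Nat.card ↥U1 = 4096 := by
  have hc := charP_two (K := ZMod 2) (m := 0) card_zmod2
  obtain ⟨X⟩ := exists_sig (K := ZMod 2) 0
  have hθ : (2 : ℕ) ^ 0 ≠ 0 := theta_ne 0
  have hfrob := frob_card (K := ZMod 2) (m := 0) card_zmod2
  have hadd := add_pow_card (K := ZMod 2) (m := 0) card_zmod2
  have hU := card_U_inf hθ X hfrob hadd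
  have e : twistedF4 (ZMod 2) (2 ^ 0) = twistedF4 (ZMod 2) 1 := rfl
  rw [e, ZMod.card] at hU
  have e2 : Nat.card ↥U1 = Nat.card ↥(chevF4.posUnipotent (ZMod 2) ⊓ twistedF4 (ZMod 2) 1) := rfl
  rw [e2, hU]
  norm_num

theorem gK_src_inj {i j : ℕ} (hi : i < 4096) (hj : j < 4096) (h : gK (src i) = gK (src j)) :
    i = j := by
  have h1 := gK_mulVec (src i) 17
  rw [h, gK_mulVec, (okS_spec hi).2.1, (okS_spec hj).2.1] at h1
  exact srt_inj hi hj (vecOf_injOn (srt_lt i) (srt_lt j) h1.symm)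

/-- every element of `U ∩ ²F₄(2)` is one of the `4096` products. -/
theorem exists_gK {y : GL Idx (ZMod 2)} (hy : y ∈ U1) : ∃ k, k < 4096 ∧ y = gK k := by
  let f : Fin 4096 → ↥U1 := fun j => ⟨gK (src j), gK_mem _⟩
  have hinj : Function.Injective f := by
    intro a b hab
    have := congrArg Subtype.val hab
    exact Fin.ext (gK_src_inj a.2 b.2 this)
  have hbij : Function.Bijective f :=
    hinj.bijective_of_nat_card_le (by rw [card_U1]; simp)
  obtain ⟨j, hj⟩ := hbij.2 ⟨y, hy⟩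
  exact ⟨src j, (okS_spec j.2).1, (congrArg Subtype.val hj).symm⟩

/-- an element of `U ∩ ²F₄(2)` whose square is `1` preserves the colours. -/
theorem pres_of_sq {y : GL Idx (ZMod 2)} (hy : y ∈ U1) (hsq : y * y = 1) : Pres y := by
  obtain ⟨k, hk, rfl⟩ := exists_gK hy
  obtain ⟨hc, happ, hcol⟩ := okE_spec hk
  have h17 : appK k (appK k 17) = 17 := by
    have h1 : ((gK k * gK k : GL Idx (ZMod 2)) : Matrix Idx Idx (ZMod 2)) *ᵥ vecOf 17 =
        vecOf (appK k (appK k 17)) := by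
      rw [Units.val_mul, ← Matrix.mulVec_mulVec, gK_mulVec, gK_mulVec]
    rw [hsq, Units.val_one, Matrix.one_mulVec] at h1
    exact (vecOf_injOn (by norm_num) (appK_lt k (appK_lt k (by norm_num))) h1).symm
  have hcol' := hcol h17
  rcases pres_or_swp hy.2 with h | h
  · exact h
  · exfalso
    have hv : vecOf 1 ∈ Cls (colB 0) := ⟨0, by norm_num, rfl, by rw [vec_zero]⟩
    have h2 := h _ _ hv
    rw [gK_mulVec, happ] at h2
    have h3 : vecOf (vec (cidx k)) ∈ Cls (colB (cidx k)) := ⟨cidx k, hc, rfl, rfl⟩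
    have h4 := cls_disjoint h2 h3
    rw [hcol'] at h4
    cases hb : colB 0 <;> simp [hb] at h4

end Cfsg.Agent.Helper17.Tits
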